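import Cfsg.Agent.SpecFive.CaseTwo
import Cfsg.Agent.SpecFive.Congruence
import Cfsg.Agent.CentralizerD8.Simple
import Cfsg.Agent.S0497

/-!
# A simple group with element orders at most five with an inverted element of order three in a 2-local
-/

set_option autoImplicit false
set_option linter.unusedSectionVars false
set_option linter.style.haveILetI false

namespace CfsgLib.SpecFive

open Cfsg
open scoped Pointwise

universe u

variable {G : Type u} [Group G] [Finite G]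

theorem SylIn.card_eq {M P : Subgroup G} (hP : SylIn M P) {a r : ℕ} (hc : Nat.card M = 2 ^ a * r)
    (hr : ¬ 2 ∣ r) : Nat.card P = 2 ^ a := by
  haveI : Fact (Nat.Prime 2) := ⟨Nat.prime_two⟩
  obtain ⟨b, hb⟩ := IsPGroup.iff_card.1 hP.isPGroup
  obtain ⟨K, hK⟩ := Sylow.exists_subgroup_card_pow_prime (G := M) 2 (n := a) (Dvd.intro r hc.symm)
  have h1 := hP.max (K.map M.subtype) (Subgroup.map_subtype_le _) ((IsPGroup.of_card hK).map _)
  rw [Subgroup.card_map_of_injective M.subtype_injective, hK, hb] at h1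
  have h2 : 2 ^ b ∣ 2 ^ a * r := by
    rw [← hb, ← hc]; exact Subgroup.card_dvd_of_le hP.le
  have h3 : 2 ^ b ∣ 2 ^ a :=
    (((Nat.Prime.coprime_iff_not_dvd Nat.prime_two).2 hr).pow_left b).dvd_of_dvd_mul_right h2
  rw [hb]
  exact le_antisymm (Nat.le_of_dvd (pow_pos (by norm_num) a) h3) h1

theorem smul_coe_eq_map (g : G) (S : Sylow 2 G) :
    ((g • S : Sylow 2 G) : Subgroup G) = (S : Subgroup G).map (MulAut.conj g).toMonoidHom := rfl

/-- There is an inverted element of order three normalising `E`. -/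
def HasS3 (E : Subgroup G) : Prop :=
  ∃ x t : G, x ^ 3 = 1 ∧ x ≠ 1 ∧ t * x * t⁻¹ = x⁻¹ ∧ x ∈ Subgroup.normalizer (E : Set G) ∧
    t ∈ Subgroup.normalizer (E : Set G)

/-- A largest 2-subgroup normalised by an inverted element of order three. -/
structure Setup (G : Type u) [Group G] (D : Subgroup G) (x t : G) : Prop where
  pD : IsPGroup 2 D
  ne_bot : D ≠ ⊥
  hx : x ^ 3 = 1
  hx1 : x ≠ 1
  ht : t * x * t⁻¹ = x⁻¹
  xN : x ∈ Subgroup.normalizer (D : Set G)
  tN : t ∈ Subgroup.normalizer (D : Set G)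
  maxD : ∀ E : Subgroup G, IsPGroup 2 E → HasS3 E → Nat.card E ≤ Nat.card D

namespace Setup

variable {D : Subgroup G} {x t : G} (hS : Setup G D x t)
include hS

local notation "MM" => Subgroup.normalizer ((D : Subgroup G) : Set G)

theorem conj_mem {g : G} (hg : g ∈ MM) {d : G} (hd : d ∈ D) : g * d * g⁻¹ ∈ D :=
  (Subgroup.mem_normalizer_iff.1 hg d).1 hd

theorem core_eq : (pCore 2 MM).map (MM).subtype = D := by
  haveI : Fact (Nat.Prime 2) := ⟨Nat.prime_two⟩
  set O := (pCore 2 MM).map (MM).subtype with hO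
  have hDO : D ≤ O := by
    intro d hd
    haveI : (D.subgroupOf MM).Normal := Subgroup.normal_in_normalizer
    exact ⟨⟨d, Subgroup.le_normalizer hd⟩, CfsgLib.Constrained.le_pCore inferInstance
      (hS.pD.of_equiv (Subgroup.subgroupOfEquivOfLe Subgroup.le_normalizer).symm)
      (Subgroup.mem_subgroupOf.2 hd), rfl⟩
  have hN : ∀ g ∈ MM, g ∈ Subgroup.normalizer (O : Set G) := fun g hg => by
    refine Subgroup.mem_normalizer_fintype fun w hw => ?_
    obtain ⟨v, hv, rfl⟩ := hw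
    exact ⟨⟨g, hg⟩ * v * ⟨g, hg⟩⁻¹, (inferInstance : (pCore 2 MM).Normal).conj_mem v hv _, rfl⟩
  exact (Subgroup.eq_of_le_of_card_ge hDO (hS.maxD O (CfsgLib.Constrained.isPGroup_pCore.map _)
    ⟨x, t, hS.hx, hS.hx1, hS.ht, hN x hS.xN, hN t hS.tN⟩)).symm

theorem mem_core_iff {w : ↥MM} : w ∈ pCore 2 MM ↔ (w : G) ∈ D := by
  refine ⟨fun h => hS.core_eq.le ⟨w, h, rfl⟩, fun hw => ?_⟩
  obtain ⟨v, hv, e⟩ := hS.core_eq.ge hw
  exact Subtype.ext e ▸ hv

theorem core_ne_bot : pCore 2 MM ≠ ⊥ := pCore_normalizer_ne_bot hS.pD hS.ne_bot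

theorem x_not_mem (h : Ord5 G) : x ∉ D := fun hx =>
  hS.hx1 (eq_one_of_pow_coprime (by norm_num) hS.hx (h.pow_of_isPGroup (Or.inl ⟨rfl, rfl⟩) hS.pD hx))

theorem t_not_mem (h : Ord5 G) : t ∉ D := by
  intro ht
  have e : x⁻¹ * x⁻¹ = t * (x * t⁻¹ * x⁻¹) := by rw [← hS.ht]; group
  have hm : x⁻¹ * x⁻¹ ∈ D := e ▸ D.mul_mem ht (hS.conj_mem hS.xN (D.inv_mem ht))
  have e2 := eq_one_of_pow_coprime (by norm_num) (h.pow_of_isPGroup (Or.inl ⟨rfl, rfl⟩) hS.pD hm)
    (show (x⁻¹ * x⁻¹) ^ 3 = 1 by rw [(Commute.refl x⁻¹).mul_pow, inv_pow, hS.hx, inv_one, one_mul])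
  exact hS.hx1 (eq_one_of_pow_coprime (m := 2) (n := 3) (by norm_num) (by
    rw [pow_two, ← inv_eq_one, mul_inv_rev, e2]) hS.hx)

theorem elem (h : Ord5 G) : Elem D := by
  obtain ⟨h1, h2⟩ := h.elementary_of_inverted hS.pD hS.hx hS.hx1 hS.ht
    (fun d hd => hS.conj_mem hS.xN hd) (fun d hd => hS.conj_mem hS.tN hd)
  exact ⟨h1, h2⟩

theorem centralizer_le (h : Ord5 G) {w : G} (hw : ∀ d ∈ D, Commute w d) : w ∈ D := by
  haveI : Fact (Nat.Prime 2) := ⟨Nat.prime_two⟩
  have hwM : w ∈ MM := Subgroup.mem_normalizer_fintype fun d hd => by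
    show w * d * w⁻¹ ∈ D
    rw [(hw d hd).eq, mul_inv_cancel_right]
    exact hd
  have hmem : (⟨w, hwM⟩ : ↥MM) ∈ Subgroup.centralizer (pCore 2 MM : Set ↥MM) :=
    Subgroup.mem_centralizer_iff.2 fun v hv => Subtype.ext (hw v ((hS.mem_core_iff).1 hv)).eq.symm
  haveI : (Subgroup.centralizer (pCore 2 MM : Set ↥MM)).Normal := inferInstance
  exact (hS.mem_core_iff).1 (CfsgLib.Constrained.le_pCore inferInstance
    ((h.subgroup MM).isPGroup_centralizer_subgroup (Or.inl ⟨rfl, rfl⟩)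
      CfsgLib.Constrained.isPGroup_pCore hS.core_ne_bot) hmem)

theorem card_eq : Nat.card (↥MM) = Nat.card (↥MM ⧸ pCore 2 MM) * Nat.card D := by
  have e : Nat.card D = Nat.card (pCore 2 MM) := by
    conv_lhs => rw [← hS.core_eq]
    exact Subgroup.card_map_of_injective (MM).subtype_injective
  rw [e]
  exact Subgroup.card_eq_card_quotient_mul_card_subgroup _

theorem quotient_cases (hrec : Rec.{u} (Nat.card G)) (h : Ord5 G) :
    (Nat.card (↥MM) = 6 * Nat.card D ∧ ∃ y, CycNormal (↥MM ⧸ pCore 2 MM) 3 y) ∨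
      Nonempty (↥MM ⧸ pCore 2 MM ≃* A5) := by
  rcases (h.subgroup MM).local_cases hrec (Subgroup.card_le_card_group _) hS.core_ne_bot with
    htop | ⟨m, y, hy⟩ | e
  · exact absurd ((hS.mem_core_iff).1 (htop.ge (Subgroup.mem_top ⟨x, hS.xN⟩))) (hS.x_not_mem h)
  · left
    have hQ := (h.subgroup MM).quotient (pCore 2 MM)
    set a : ↥MM ⧸ pCore 2 MM := QuotientGroup.mk ⟨x, hS.xN⟩ with ha
    set b : ↥MM ⧸ pCore 2 MM := QuotientGroup.mk ⟨t, hS.tN⟩ with hb
    have ha3 : a ^ 3 = 1 := by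
      rw [ha, ← QuotientGroup.mk_pow]
      exact (congrArg QuotientGroup.mk (Subtype.ext hS.hx : (⟨x, hS.xN⟩ : ↥MM) ^ 3 = 1)).trans rfl
    have ha1 : a ≠ 1 := fun e => hS.x_not_mem h ((hS.mem_core_iff).1 ((QuotientGroup.eq_one_iff _).1 e))
    have hm3 : m = 3 := by
      rcases hy.hm with e | e
      · exact e
      · exact absurd (hy.not_three hQ e ha3) ha1
    subst hm3
    obtain ⟨ht2, -⟩ := h.inverting (Or.inl rfl) hS.hx hS.hx1 hS.ht
    have hb2 : b * b = 1 := by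
      rw [hb, ← QuotientGroup.mk_mul]
      exact (congrArg QuotientGroup.mk (Subtype.ext ht2 : (⟨t, hS.tN⟩ : ↥MM) * ⟨t, hS.tN⟩ = 1)).trans rfl
    have hb1 : b ≠ 1 := fun e => hS.t_not_mem h ((hS.mem_core_iff).1 ((QuotientGroup.eq_one_iff _).1 e))
    refine ⟨?_, y, hy⟩
    rw [hS.card_eq, hy.card_six rfl (hy.inverts hQ hb2 hb1)]
  · exact Or.inr e

theorem fixed_card (hrec : Rec.{u} (Nat.card G)) (h : Ord5 G) {a : G} (haM : a ∈ MM) (haD : a ∉ D)
    (ha2 : a * a ∈ D) :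
    Nat.card (D ⊓ Subgroup.centralizer ({a} : Set G) : Subgroup G) *
      Nat.card (D ⊓ Subgroup.centralizer ({a} : Set G) : Subgroup G) = Nat.card D := by
  have hM := h.subgroup MM
  set σ : ↥MM := ⟨a, haM⟩ with hσ
  set s : ↥MM ⧸ pCore 2 MM := QuotientGroup.mk σ with hs
  have hs1 : s ≠ 1 := fun e => haD ((hS.mem_core_iff).1 ((QuotientGroup.eq_one_iff _).1 e))
  have hs2 : s * s = 1 := by
    rw [hs, ← QuotientGroup.mk_mul]
    exact (QuotientGroup.eq_one_iff _).2 ((hS.mem_core_iff).2 ha2)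
  obtain ⟨k, hk, hk1, hks⟩ : ∃ k : ↥MM ⧸ pCore 2 MM, k ^ 3 = 1 ∧ k ≠ 1 ∧ s * k * s⁻¹ = k⁻¹ := by
    rcases hS.quotient_cases hrec h with ⟨-, y, hy⟩ | ⟨⟨e⟩⟩
    · exact ⟨y, hy.pow, hy.ne_one, hy.inverts (hM.quotient _) hs2 hs1⟩
    · obtain ⟨k, hk, hk1, hks⟩ := a5_involution_inverts (e s) (by rw [← map_mul, hs2, map_one])
        (by simpa using hs1)
      refine ⟨e.symm k, by rw [← map_pow, hk, map_one], by simpa using hk1, e.injective ?_⟩
      simp only [map_mul, map_inv, MulEquiv.apply_symm_apply]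
      exact hks
  obtain ⟨y, τ, hy, hy1, -, hτs, hτ⟩ :=
    hM.exists_inverted_lift CfsgLib.Constrained.isPGroup_pCore (Or.inl rfl) hk hk1 hks
  have hd : a⁻¹ * (τ : G) ∈ D := (hS.mem_core_iff (w := σ⁻¹ * τ)).1 (QuotientGroup.eq.1 hτs.symm)
  have hE := hS.elem h
  have hy' : (y : G) ^ 3 = 1 := congrArg Subtype.val hy
  have hy1' : (y : G) ≠ 1 := fun e => hy1 (Subtype.ext e)
  have hτ' : (τ : G) * y * (τ : G)⁻¹ = (y : G)⁻¹ := congrArg Subtype.val hτ
  have hC : D ⊓ Subgroup.centralizer ({a} : Set G) = D ⊓ Subgroup.centralizer ({(τ : G)} : Set G) := by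
    ext d
    simp only [Subgroup.mem_inf, Subgroup.mem_centralizer_singleton_iff]
    refine and_congr_right fun hdD => ?_
    have hc : Commute (a⁻¹ * (τ : G)) d := hE.1 _ hd _ hdD
    constructor
    · intro he
      show d * (τ : G) = τ * d
      have : Commute (a * (a⁻¹ * (τ : G))) d := (Commute.mul_left (show Commute a d from he.symm) hc)
      rw [mul_inv_cancel_left] at this
      exact this.eq.symm
    · intro he
      show d * a = a * d
      have h0 : Commute ((τ : G) * (a⁻¹ * (τ : G))⁻¹) d :=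
        (show Commute (τ : G) d from he.symm).mul_left hc.inv_left
      rw [mul_inv_rev, inv_inv, mul_inv_cancel_left] at h0
      exact h0.eq.symm
  rw [hC]
  exact card_fixed_eq hy' hτ' (h.inverting (Or.inl rfl) hy' hy1' hτ').1
    (fun d hd => hS.conj_mem τ.2 hd) (fun d hd => hS.conj_mem y.2 hd)
    (h.fpf hS.pD (Or.inl rfl) hy' hy1') hE.1 hE.2

theorem elem_bound (hrec : Rec.{u} (Nat.card G)) (h : Ord5 G) {P A : Subgroup G} {k r : ℕ}
    (hP : SylIn MM P) (hk : Nat.card P = k * Nat.card D) (hr : r * r = Nat.card D) (hA : Elem A)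
    (hAP : A ≤ P) (hAD : ¬ A ≤ D) : Nat.card A ≤ k * r := by
  obtain ⟨a, haA, haD⟩ := SetLike.not_le_iff_exists.1 hAD
  have hc := hS.fixed_card hrec h (hP.le (hAP haA)) haD (by rw [hA.2 a haA]; exact D.one_mem)
  have hle : A ⊓ D ≤ D ⊓ Subgroup.centralizer ({a} : Set G) := fun v hv =>
    ⟨hv.2, Subgroup.mem_centralizer_singleton_iff.2 (hA.1 v hv.1 a haA).eq⟩
  have hDP : D ≤ P := hS.core_eq.ge.trans hP.core_le
  have h1 : Nat.card A * Nat.card D ≤ Nat.card P * r :=
    (CfsgLib.LocalP.card_mul_le_card_sup_mul_card_inf A D).trans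
      (Nat.mul_le_mul (Subgroup.card_le_of_le (sup_le hAP hDP))
        ((Subgroup.card_le_of_le hle).trans (le_of_eq (Nat.mul_self_inj.1 (hc.trans hr.symm)))))
  rw [hk, show k * Nat.card D * r = k * r * Nat.card D by ring] at h1
  exact Nat.le_of_mul_le_mul_right h1 Nat.card_pos

/-- If the fixed points are large the centre `D` of the configuration gives a proper normal subgroup. -/
theorem false_of_large [IsSimpleGroup G] (hrec : Rec.{u} (Nat.card G)) (hG : RF G) {k r : ℕ}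
    (hk : ∀ P, SylIn MM P → Nat.card P = k * Nat.card D) (hr : r * r = Nat.card D) (hkr : k < r) :
    False := by
  haveI : Fact (Nat.Prime 2) := ⟨Nat.prime_two⟩
  have h := hG.ord
  have hE := hS.elem h
  have hlt : k * r < Nat.card D := by
    rw [← hr]; exact Nat.mul_lt_mul_of_pos_right hkr (lt_of_le_of_lt (Nat.zero_le k) hkr)
  have only : ∀ P, SylIn MM P → ∀ A : Subgroup G, Elem A → A ≤ P → Nat.card A = Nat.card D → A = D := by
    intro P hP A hA hAP hc
    by_cases hAD : A ≤ D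
    · exact Subgroup.eq_of_le_of_card_ge hAD hc.ge
    · have := hS.elem_bound hrec h hP (hk P hP) hr hA hAP hAD
      omega
  let cj : G → Subgroup G → Subgroup G := fun g H => H.map (MulAut.conj g).toMonoidHom
  have cjD : ∀ g, Elem (cj g D) ∧ Nat.card (cj g D) = Nat.card D := fun g =>
    ⟨hE.map _, Subgroup.card_map_of_injective (MulAut.conj g).injective⟩
  have normM : ∀ g : G, cj g D = D → g ∈ MM := fun g hg => mem_normalizer_of_map_eq hg
  -- Sylow 2-subgroups of `M` are Sylow 2-subgroups of `G`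
  have hfull : ∀ P, SylIn MM P → ∀ T : Sylow 2 G, P ≤ T → P = (T : Subgroup G) := by
    intro P hP T hPT
    by_contra hne
    haveI : Group.IsNilpotent (T : Subgroup G) := T.2.isNilpotent
    have hlt1 : P.subgroupOf (T : Subgroup G) < ⊤ := lt_top_iff_ne_top.2 fun e =>
      hne (le_antisymm hPT (Subgroup.subgroupOf_eq_top.1 e))
    obtain ⟨g, hg, hgP⟩ := SetLike.exists_of_lt (Group.normalizerCondition_of_isNilpotent _ hlt1)
    have hDP : D ≤ P := hS.core_eq.ge.trans hP.core_le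
    have hgD : cj (g : G) D = D := only P hP _ (cjD _).1 (by
      rintro _ ⟨d, hd, rfl⟩
      exact (Subgroup.mem_normalizer_iff.1 hg ⟨d, hPT (hDP hd)⟩).1 (hDP hd)) (cjD _).2
    have hp : IsPGroup 2 (P ⊔ Subgroup.zpowers (g : G) : Subgroup G) :=
      T.2.to_le (sup_le hPT (Subgroup.zpowers_le.2 g.2))
    have hle := hP.max _ (sup_le hP.le (Subgroup.zpowers_le.2 (normM _ hgD))) hp
    exact hgP ((Subgroup.eq_of_le_of_card_ge le_sup_left hle).ge
      (le_sup_right (a := P) (Subgroup.mem_zpowers (g : G))))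
  obtain ⟨P₀, -, hP₀⟩ := exists_sylIn MM (Subgroup.le_normalizer) hS.pD
  obtain ⟨S₀, hS₀⟩ := hP₀.isPGroup.exists_le_sylow
  have hPS := hfull P₀ hP₀ S₀ hS₀
  have hSc : ∀ T : Sylow 2 G, Nat.card (T : Subgroup G) = k * Nat.card D := fun T => by
    rw [T.card_eq_multiplicity, ← S₀.card_eq_multiplicity, ← hPS, hk P₀ hP₀]
  have hDS : D ≤ (S₀ : Subgroup G) := hS.core_eq.ge.trans (hP₀.core_le.trans hS₀)
  -- one conjugate of `D` in each Sylow subgroup
  have exE : ∀ T : Sylow 2 G, ∃ c : G, c • S₀ = T ∧ cj c D ≤ (T : Subgroup G) := fun T => by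
    obtain ⟨c, hc⟩ := MulAction.exists_smul_eq G S₀ T
    exact ⟨c, hc, by rw [← hc]; exact Subgroup.map_mono hDS⟩
  have uniq : ∀ T : Sylow 2 G, ∀ g g' : G, cj g D ≤ (T : Subgroup G) → cj g' D ≤ (T : Subgroup G) →
      cj g D = cj g' D := by
    intro T g g' hg hg'
    obtain ⟨c, rfl⟩ := MulAction.exists_smul_eq G S₀ T
    have key : ∀ w : G, cj w D ≤ ((c • S₀ : Sylow 2 G) : Subgroup G) → cj w D = cj c D := by
      intro w hw
      have hle : cj c⁻¹ (cj w D) ≤ P₀ := by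
        rintro _ ⟨v, hv, rfl⟩
        obtain ⟨s, hs, rfl⟩ := hw hv
        rw [hPS]
        show c⁻¹ * (c * s * c⁻¹) * c⁻¹⁻¹ ∈ (S₀ : Subgroup G)
        rw [show c⁻¹ * (c * s * c⁻¹) * c⁻¹⁻¹ = s by group]
        exact hs
      have h2 := only P₀ hP₀ _ ((cjD w).1.map _) hle
        ((Subgroup.card_map_of_injective (MulAut.conj c⁻¹).injective).trans (cjD w).2)
      conv_rhs => rw [← h2]
      simp only [cj, Subgroup.map_map]
      congr 1
      ext v
      simp [mul_assoc]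
    rw [key g hg, key g' hg']
  have ti : ∀ g g' : G, ∀ w : G, w ≠ 1 → w ∈ cj g D → w ∈ cj g' D → cj g D = cj g' D := by
    intro g g' w hw1 hw hw'
    obtain ⟨T, hT⟩ := (h.isPGroup_centralizer (p := 2) (m := 4) (Or.inl ⟨rfl, rfl⟩)
      (show w ^ 4 = 1 by
        rw [show (4 : ℕ) = 2 * 2 from rfl, pow_mul, pow_two w, (cjD g).1.2 w hw, one_pow]) hw1).exists_le_sylow
    exact uniq T g g' (fun v hv => hT (Subgroup.mem_centralizer_singleton_iff.2 ((cjD g).1.1 v hv w hw).eq))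
      (fun v hv => hT (Subgroup.mem_centralizer_singleton_iff.2 ((cjD g').1.1 v hv w hw').eq))
  have cj1 : cj 1 D = D := by
    ext v
    simp [cj]
  -- conjugates of elements of `D` lie in the conjugates of `D`
  have closed₀ : ∀ d ∈ D, d ≠ 1 → ∀ g : G, g * d * g⁻¹ ∈ (S₀ : Subgroup G) → g * d * g⁻¹ ∈ D := by
    intro d hd hd1 g hu
    by_contra huD
    set u := g * d * g⁻¹ with hudef
    have huE : u ∈ cj g D := ⟨d, hd, rfl⟩
    have huu : u * u = 1 := (cjD g).1.2 u huE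
    have hu1 : u ≠ 1 := fun e => hd1 (conj_eq_one_iff.1 e)
    have hR := hS.fixed_card hrec h (hP₀.le (hPS.ge hu)) huD (by rw [huu]; exact D.one_mem)
    set R := D ⊓ Subgroup.centralizer ({u} : Set G) with hRdef
    obtain ⟨T, hT⟩ := (h.isPGroup_centralizer (p := 2) (m := 4) (Or.inl ⟨rfl, rfl⟩)
      (show u ^ 4 = 1 by rw [show (4 : ℕ) = 2 * 2 from rfl, pow_mul, pow_two u, huu, one_pow]) hu1).exists_le_sylow
    have hle : R ⊔ cj g D ≤ (T : Subgroup G) := sup_le (fun v hv => hT hv.2)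
      (fun v hv => hT (Subgroup.mem_centralizer_singleton_iff.2 ((cjD g).1.1 v hv u huE).eq))
    have hbot : R ⊓ cj g D = ⊥ := by
      rw [Subgroup.eq_bot_iff_forall]
      rintro v ⟨hvR, hvE⟩
      by_contra hv1
      have := ti 1 g v hv1 (cj1.symm ▸ hvR.1) hvE
      rw [cj1] at this
      exact huD (this.symm ▸ huE)
    have h1 := (CfsgLib.LocalP.card_mul_le_card_sup_mul_card_inf R (cj g D)).trans
      (Nat.mul_le_mul_right _ (Subgroup.card_le_of_le hle))
    rw [hbot, Subgroup.card_bot, mul_one, hSc, (cjD g).2, Nat.mul_self_inj.1 (hR.trans hr.symm)] at h1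
    have := Nat.le_of_mul_le_mul_right h1 Nat.card_pos
    omega
  have closed : ∀ T : Sylow 2 G, ∀ c : G, cj c D ≤ (T : Subgroup G) → ∀ d ∈ D, d ≠ 1 → ∀ g : G,
      g * d * g⁻¹ ∈ (T : Subgroup G) → g * d * g⁻¹ ∈ cj c D := by
    intro T c hc d hd hd1 g hu
    obtain ⟨c', hc', hle⟩ := exE T
    rw [uniq T c c' hc hle]
    rw [← hc', smul_coe_eq_map] at hu
    obtain ⟨s, hs, hse⟩ := hu
    have e : (c'⁻¹ * g) * d * (c'⁻¹ * g)⁻¹ = s := by
      have : c' * s * c'⁻¹ = g * d * g⁻¹ := hse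
      calc (c'⁻¹ * g) * d * (c'⁻¹ * g)⁻¹ = c'⁻¹ * (g * d * g⁻¹) * c' := by group
        _ = s := by rw [← this]; group
    exact ⟨s, e ▸ closed₀ d hd hd1 (c'⁻¹ * g) (e.symm ▸ hs), hse⟩
  obtain ⟨ht2, ht1⟩ := h.inverting (Or.inl rfl) hS.hx hS.hx1 hS.ht
  have ho2 : orderOf t = 2 := CfsgLib.StronglyEmbedded.orderOf_two_iff.2 ⟨ht2, ht1⟩
  obtain ⟨z, hz, hz1⟩ := D.bot_or_exists_ne_one.resolve_left hS.ne_bot
  have hoz : orderOf z = 2 := CfsgLib.StronglyEmbedded.orderOf_two_iff.2 ⟨hE.2 z hz, hz1⟩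
  obtain ⟨P₁, hP₁t, hP₁⟩ := exists_sylIn MM (Subgroup.zpowers_le.2 hS.tN)
    (IsPGroup.of_card (n := 1) (by rw [Nat.card_zpowers, ho2, pow_one]))
  obtain ⟨T₁, hT₁⟩ := hP₁.isPGroup.exists_le_sylow
  have hDT₁ : D ≤ (T₁ : Subgroup G) := hS.core_eq.ge.trans (hP₁.core_le.trans hT₁)
  have hnc : ¬ IsConj z t := by
    intro hc
    obtain ⟨g, hg⟩ := isConj_iff.1 hc
    have := closed T₁ 1 (cj1.le.trans hDT₁) z hz hz1 g (hg ▸ hT₁ (hP₁t (Subgroup.mem_zpowers t)))
    rw [cj1, hg] at this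
    exact hS.t_not_mem h this
  have hall : ∀ g : G, g * t * g⁻¹ ∈ MM := by
    intro g
    have hv : orderOf (g * t * g⁻¹) = 2 := by rw [CfsgLib.StronglyEmbedded.orderOf_conj]; exact ho2
    obtain ⟨c, hc, hcz, hcv⟩ := CfsgLib.BaerSuzuki.exists_common_central_involution hoz hv
      (fun hh => hnc (hh.trans (isConj_iff.2 ⟨g⁻¹, by group⟩)))
    obtain ⟨hc2, hc1⟩ := CfsgLib.StronglyEmbedded.orderOf_two_iff.1 hc
    obtain ⟨T, hT⟩ := (h.isPGroup_centralizer (p := 2) (m := 4) (Or.inl ⟨rfl, rfl⟩)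
      (show c ^ 4 = 1 by rw [show (4 : ℕ) = 2 * 2 from rfl, pow_mul, pow_two c, hc2, one_pow]) hc1).exists_le_sylow
    obtain ⟨c', -, hle⟩ := exE T
    have hzT : (1 : G) * z * (1 : G)⁻¹ ∈ (T : Subgroup G) := by
      simpa using hT (Subgroup.mem_centralizer_singleton_iff.2 hcz.symm.eq)
    have h2 := closed T c' hle z hz hz1 1 hzT
    have h3 : D = cj c' D := cj1.symm.trans (ti 1 c' z hz1 (cj1.symm ▸ hz) (by simpa using h2))
    rw [← h3] at hle
    have hvT : g * t * g⁻¹ ∈ (T : Subgroup G) := hT (Subgroup.mem_centralizer_singleton_iff.2 hcv.symm.eq)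
    refine normM _ ((uniq T (g * t * g⁻¹) 1 ?_ (cj1.le.trans hle)).trans cj1)
    rintro _ ⟨d, hd, rfl⟩
    exact (T : Subgroup G).mul_mem ((T : Subgroup G).mul_mem hvT (hle hd)) ((T : Subgroup G).inv_mem hvT)
  have hMtop : MM ≠ ⊤ := fun e => by
    haveI := hS.pD.isNilpotent
    exact hS.ne_bot (hG.radical D (Subgroup.normalizer_eq_top_iff.1 e) inferInstance)
  have hnc' : Subgroup.normalClosure ({t} : Set G) ≤ MM :=
    (Subgroup.closure_le _).2 fun w hw => by
      obtain ⟨a, ha, haw⟩ := Group.mem_conjugatesOfSet_iff.1 hw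
      rw [Set.mem_singleton_iff] at ha
      subst ha
      obtain ⟨g, hg⟩ := isConj_iff.1 haw
      exact hg ▸ hall g
  rcases IsSimpleGroup.eq_bot_or_eq_top_of_normal (Subgroup.normalClosure ({t} : Set G))
    Subgroup.normalClosure_normal with e | e
  · exact ht1 (Subgroup.mem_bot.1 (e ▸ Subgroup.subset_normalClosure (Set.mem_singleton t)))
  · exact hMtop (top_le_iff.1 (e ▸ hnc'))

/-- The four group case: `A₆`. -/
theorem concl_of_four [IsSimpleGroup G] (hG : RF G) (hrec : Rec.{u} (Nat.card G))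
    (hD : Nat.card D = 4) (hM : Nat.card (↥MM) = 6 * Nat.card D) : Concl G := by
  haveI : Fact (Nat.Prime 2) := ⟨Nat.prime_two⟩
  have h := hG.ord
  have hE := hS.elem h
  obtain ⟨ht2, ht1⟩ := h.inverting (Or.inl rfl) hS.hx hS.hx1 hS.ht
  have htt : t⁻¹ = t := inv_eq_of_mul_eq_one_right ht2
  obtain ⟨P, htP', hP⟩ := exists_sylIn MM (Subgroup.zpowers_le.2 hS.tN)
    (IsPGroup.of_card (n := 1) (by
      rw [Nat.card_zpowers, CfsgLib.StronglyEmbedded.orderOf_two_iff.2 ⟨ht2, ht1⟩, pow_one]))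
  have htP : t ∈ P := htP' (Subgroup.mem_zpowers t)
  have hPc : Nat.card P = 8 := hP.card_eq (a := 3) (r := 3) (by rw [hM, hD]; norm_num) (by norm_num)
  have hDP : D ≤ P := hS.core_eq.ge.trans hP.core_le
  have htD := hS.t_not_mem h
  have hcs := hS.fixed_card hrec h hS.tN htD (by rw [ht2]; exact D.one_mem)
  set C := D ⊓ Subgroup.centralizer ({t} : Set G) with hCdef
  have hC2 : Nat.card C = 2 := Nat.mul_self_inj.1 (hcs.trans hD)
  obtain ⟨⟨z, hzC⟩, hz1, hzu⟩ := Nat.card_eq_two_iff' (1 : C) |>.1 hC2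
  have hz1' : z ≠ 1 := fun e => hz1 (Subtype.ext e)
  have hCel : ∀ w ∈ C, w = 1 ∨ w = z := fun w hw => by
    by_cases hw1 : w = 1
    · exact Or.inl hw1
    · exact Or.inr (congrArg Subtype.val (hzu ⟨w, hw⟩ fun e => hw1 (congrArg Subtype.val e)))
  obtain ⟨d, hdD, hdC⟩ : ∃ d ∈ D, d ∉ C := by
    by_contra hc
    push Not at hc
    have := Subgroup.card_le_of_le (show D ≤ C from hc)
    omega
  have hzD : z ∈ D := hzC.1
  have hzt : Commute z t := Subgroup.mem_centralizer_singleton_iff.1 hzC.2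
  have hzd : Commute z d := hE.1 z hzD d hdD
  have φC : ∀ w ∈ D, w * (t * w * t⁻¹) ∈ C := fun w hw => by
    have hb : t * w * t⁻¹ ∈ D := hS.conj_mem hS.tN hw
    refine ⟨D.mul_mem hw hb, Subgroup.mem_centralizer_singleton_iff.2 (mul_inv_eq_iff_eq_mul.1 ?_).symm⟩
    calc t * (w * (t * w * t⁻¹)) * t⁻¹ = t * w * t⁻¹ * ((t * t) * w * (t * t)⁻¹) := by group
      _ = w * (t * w * t⁻¹) := by rw [ht2, (hE.1 w hw _ hb).eq]; group
  have φz : ∀ w ∈ D, w ∉ C → t * w * t⁻¹ = w * z := fun w hw hwC => by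
    rcases hCel _ (φC w hw) with e | e
    · exfalso
      refine hwC ⟨hw, Subgroup.mem_centralizer_singleton_iff.2 (mul_inv_eq_iff_eq_mul.1 ?_).symm⟩
      rw [eq_inv_of_mul_eq_one_right e]
      exact inv_eq_of_mul_eq_one_right (hE.2 w hw)
    · calc t * w * t⁻¹ = w * w * (t * w * t⁻¹) := by rw [hE.2 w hw, one_mul]
        _ = w * z := by rw [mul_assoc, e]
  have htd : t * d * t⁻¹ = d * z := φz d hdD hdC
  have hDel : ∀ w ∈ D, w = 1 ∨ w = z ∨ w = d ∨ w = d * z := by
    intro w hw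
    by_cases hwC : w ∈ C
    · rcases hCel w hwC with e | e
      exacts [Or.inl e, Or.inr (Or.inl e)]
    have hdw : d * w ∈ C := by
      refine ⟨D.mul_mem hdD hw, Subgroup.mem_centralizer_singleton_iff.2 (mul_inv_eq_iff_eq_mul.1 ?_).symm⟩
      calc t * (d * w) * t⁻¹ = t * d * t⁻¹ * (t * w * t⁻¹) := by group
        _ = d * z * (w * z) := by rw [htd, φz w hw hwC]
        _ = d * w * (z * z) := by
          rw [show d * z * (w * z) = d * (z * w) * z by group, (hE.1 z hzD w hw).eq]; group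
        _ = d * w := by rw [hE.2 z hzD, mul_one]
    have e2 : w = d * (d * w) := by rw [← mul_assoc, hE.2 d hdD, one_mul]
    rcases hCel _ hdw with e | e <;> rw [e] at e2
    · exact Or.inr (Or.inr (Or.inl (by rw [e2, mul_one])))
    · exact Or.inr (Or.inr (Or.inr e2))
  have hidx : (D.subgroupOf P).index = 2 := by
    have h1 := (D.subgroupOf P).card_mul_index
    rw [Nat.card_congr (Subgroup.subgroupOfEquivOfLe hDP).toEquiv, hD, hPc] at h1
    omega
  have hPel : ∀ p ∈ P, p = 1 ∨ p = z ∨ p = d ∨ p = d * z ∨ p = t ∨ p = t * z ∨ p = d * t ∨ p = d * t * z := by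
    intro p hp
    by_cases hpD : p ∈ D
    · rcases hDel p hpD with e | e | e | e
      exacts [Or.inl e, Or.inr (Or.inl e), Or.inr (Or.inr (Or.inl e)), Or.inr (Or.inr (Or.inr (Or.inl e)))]
    have hpt : p * t ∈ D := by
      have := (Subgroup.mul_mem_iff_of_index_two hidx (a := ⟨p, hp⟩) (b := ⟨t, htP⟩)).2
        (iff_of_false (fun e => hpD (Subgroup.mem_subgroupOf.1 e)) (fun e => htD (Subgroup.mem_subgroupOf.1 e)))
      exact Subgroup.mem_subgroupOf.1 this
    have e2 : p = p * t * t := by rw [mul_assoc, ht2, mul_one]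
    rcases hDel _ hpt with e | e | e | e <;> rw [e] at e2
    · simp only [one_mul] at e2; simp [e2]
    · rw [hzt.eq] at e2; simp [e2]
    · simp [e2]
    · rw [mul_assoc d z t, hzt.eq, ← mul_assoc] at e2; simp [e2]
  set a := d * t with hadef
  have ha2 : a * a = z := by
    calc d * t * (d * t) = d * (t * d * t⁻¹) * (t * t) := by group
      _ = z := by rw [htd, ht2, mul_one, ← mul_assoc, hE.2 d hdD, one_mul]
  have hzP : z ∈ P := hDP hzD
  have hdP : d ∈ P := hDP hdD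
  have hcen : ∀ p ∈ P, Commute z p := by
    intro p hp
    rcases hPel p hp with e | e | e | e | e | e | e | e <;> rw [e]
    exacts [Commute.one_right z, hzd, hzd.mul_right (Commute.refl z), hzt,
      hzt.mul_right (Commute.refl z), hzd.mul_right hzt, (hzd.mul_right hzt).mul_right (Commute.refl z)]
  have hsq : ∀ p ∈ P, p * p = 1 ∨ p * p = z := by
    intro p hp
    have hz2 : z * z = 1 := hE.2 z hzD
    have case_z : ∀ q : G, Commute z q → q * z * (q * z) = q * q := fun q hq => by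
      calc q * z * (q * z) = q * (z * q) * z := by group
        _ = q * q * (z * z) := by rw [hq.eq]; group
        _ = q * q := by rw [hz2, mul_one]
    rcases hPel p hp with e | e | e | e | e | e | e | e <;> rw [e]
    · exact Or.inl (one_mul 1)
    · exact Or.inl hz2
    · exact Or.inl (hE.2 d hdD)
    · exact Or.inl (by rw [case_z d hzd, hE.2 d hdD])
    · exact Or.inl ht2
    · exact Or.inl (by rw [case_z t hzt, ht2])
    · exact Or.inr ha2
    · exact Or.inr (by rw [case_z a (hzd.mul_right hzt)]; exact ha2)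
  have hazz : a * z * (a * z) = z := by
    have c : Commute z a := hzd.mul_right hzt
    calc a * z * (a * z) = a * (z * a) * z := by group
      _ = a * a * (z * z) := by rw [c.eq]; group
      _ = z := by rw [ha2, hE.2 z hzD, mul_one]
  obtain ⟨T, hT⟩ := hP.isPGroup.exists_le_sylow
  have hTP : (T : Subgroup G) = P := by
    by_contra hne
    haveI : Group.IsNilpotent (T : Subgroup G) := T.2.isNilpotent
    have hlt1 : P.subgroupOf (T : Subgroup G) < ⊤ := lt_top_iff_ne_top.2 fun e =>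
      hne (le_antisymm (Subgroup.subgroupOf_eq_top.1 e) hT)
    obtain ⟨⟨g₀, hg₀T⟩, hg₀, hg₀P⟩ := SetLike.exists_of_lt (Group.normalizerCondition_of_isNilpotent _ hlt1)
    have hn₀ : ∀ p ∈ P, g₀ * p * g₀⁻¹ ∈ P := fun p hp =>
      (Subgroup.mem_normalizer_iff.1 hg₀ ⟨p, hT hp⟩).1 hp
    obtain ⟨g, hgT, hgP, hgn, hg2⟩ : ∃ g ∈ (T : Subgroup G), g ∉ P ∧ (∀ p ∈ P, g * p * g⁻¹ ∈ P) ∧ g * g ∈ P := by
      by_cases hs : g₀ * g₀ ∈ P
      · exact ⟨g₀, hg₀T, fun e => hg₀P e, hn₀, hs⟩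
      · refine ⟨g₀ * g₀, (T : Subgroup G).mul_mem hg₀T hg₀T, hs, fun p hp => ?_, ?_⟩
        · rw [show g₀ * g₀ * p * (g₀ * g₀)⁻¹ = g₀ * (g₀ * p * g₀⁻¹) * g₀⁻¹ by group]
          exact hn₀ _ (hn₀ p hp)
        · rw [show g₀ * g₀ * (g₀ * g₀) = g₀ ^ 4 by simp only [pow_succ, pow_zero, one_mul, mul_assoc],
            h.pow_of_isPGroup (Or.inl ⟨rfl, rfl⟩) T.2 hg₀T]
          exact P.one_mem
    have hgM : g ∉ MM := fun hgM => hgP ((Subgroup.eq_of_le_of_card_ge (le_sup_left : P ≤ P ⊔ Subgroup.zpowers g)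
      (hP.max _ (sup_le hP.le (Subgroup.zpowers_le.2 hgM))
        (T.2.to_le (sup_le hT (Subgroup.zpowers_le.2 hgT))))).ge (le_sup_right (a := P) (Subgroup.mem_zpowers g)))
    have haP : a ∈ P := P.mul_mem hdP htP
    have gz : g * z * g⁻¹ = z := by
      have e : g * a * g⁻¹ * (g * a * g⁻¹) = g * z * g⁻¹ := by rw [← ha2]; group
      rcases hsq _ (hgn a haP) with e1 | e1 <;> rw [e] at e1
      · exact absurd (conj_eq_one_iff.1 e1) hz1'
      · exact e1
    have gd : g * d * g⁻¹ = t ∨ g * d * g⁻¹ = t * z := by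
      have hu : g * d * g⁻¹ * (g * d * g⁻¹) = 1 := by
        rw [show g * d * g⁻¹ * (g * d * g⁻¹) = g * (d * d) * g⁻¹ by group, hE.2 d hdD, mul_one, mul_inv_cancel]
      have hnD : g * d * g⁻¹ ∉ D := by
        intro hh
        refine hgM (Subgroup.mem_normalizer_fintype fun w hw => ?_)
        rcases hDel w hw with e | e | e | e
        · simp [e]
        · show g * w * g⁻¹ ∈ D; rw [e, gz]; exact hzD
        · show g * w * g⁻¹ ∈ D; rw [e]; exact hh
        · show g * w * g⁻¹ ∈ D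
          rw [e, show g * (d * z) * g⁻¹ = g * d * g⁻¹ * (g * z * g⁻¹) by group, gz]
          exact D.mul_mem hh hzD
      rcases hPel _ (hgn d hdP) with e | e | e | e | e | e | e | e
      · exact absurd (by rw [e]; exact D.one_mem) hnD
      · exact absurd (by rw [e]; exact hzD) hnD
      · exact absurd (by rw [e]; exact hdD) hnD
      · exact absurd (by rw [e]; exact D.mul_mem hdD hzD) hnD
      · exact Or.inl e
      · exact Or.inr e
      all_goals
        exfalso
        rw [e] at hu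
        apply hz1'
      · rw [← ha2]; exact hu
      · rw [← hazz]; exact hu
    have gt : g * t * g⁻¹ = d ∨ g * t * g⁻¹ = d * z := by
      have hu : g * t * g⁻¹ * (g * t * g⁻¹) = 1 := by
        rw [show g * t * g⁻¹ * (g * t * g⁻¹) = g * (t * t) * g⁻¹ by group, ht2, mul_one, mul_inv_cancel]
      have hda : g * a * g⁻¹ = g * d * g⁻¹ * (g * t * g⁻¹) := by rw [hadef]; group
      have gaa : g * a * g⁻¹ * (g * a * g⁻¹) = z := by
        rw [show g * a * g⁻¹ * (g * a * g⁻¹) = g * (a * a) * g⁻¹ by group, ha2, gz]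
      have bad : ∀ u v : G, (u = t ∨ u = t * z) → (v = 1 ∨ v = z ∨ v = t ∨ v = t * z) → u * v * (u * v) = 1 := by
        have hzz : z * z = 1 := hE.2 z hzD
        have htz2 : t * z * (t * z) = 1 := by
          calc t * z * (t * z) = t * (z * t) * z := by group
            _ = t * t * (z * z) := by rw [hzt.eq]; group
            _ = 1 := by rw [ht2, hzz, one_mul]
        intro u v hu' hv'
        have hu2 : u * u = 1 := by rcases hu' with e | e <;> rw [e] <;> assumption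
        have hv2 : v * v = 1 := by
          rcases hv' with e | e | e | e <;> rw [e]
          exacts [one_mul 1, hzz, ht2, htz2]
        have ct : Commute t v := by
          rcases hv' with e | e | e | e <;> rw [e]
          exacts [Commute.one_right t, hzt.symm, (Commute.refl t).mul_right hzt.symm]
        have cz : Commute z v := by
          rcases hv' with e | e | e | e <;> rw [e]
          exacts [Commute.one_right z, hzt, hzt.mul_right (Commute.refl z)]
        have cuv : Commute u v := by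
          rcases hu' with e | e <;> rw [e]
          exacts [ct, ct.mul_left cz]
        calc u * v * (u * v) = u * (v * u) * v := by group
          _ = u * u * (v * v) := by rw [← cuv.eq]; group
          _ = 1 := by rw [hu2, hv2, one_mul]
      have bad' : ∀ v : G, (v = 1 ∨ v = z ∨ v = t ∨ v = t * z) → g * t * g⁻¹ ≠ v := by
        intro v hv e
        refine hz1' ?_
        rw [← gaa, hda, e]
        exact bad _ _ gd hv
      rcases hPel _ (hgn t htP) with e | e | e | e | e | e | e | e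
      · exact absurd e (bad' _ (Or.inl rfl))
      · exact absurd e (bad' _ (Or.inr (Or.inl rfl)))
      · exact Or.inl e
      · exact Or.inr e
      · exact absurd e (bad' _ (Or.inr (Or.inr (Or.inl rfl))))
      · exact absurd e (bad' _ (Or.inr (Or.inr (Or.inr rfl))))
      all_goals
        exfalso
        rw [e] at hu
        apply hz1'
      · rw [← ha2]; exact hu
      · rw [← hazz]; exact hu
    exact no_dihedral_extension h (hE.2 z hzD) hz1' (hE.2 d hdD) ht2 hzd hzt htd hdP htP hPel gz gd gt hg2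
  have hC8 : Nat.card (Subgroup.centralizer ({z} : Set G)) = 8 := by
    obtain ⟨U, hU⟩ := (h.isPGroup_centralizer (p := 2) (m := 4) (Or.inl ⟨rfl, rfl⟩)
      (show z ^ 4 = 1 by rw [show (4 : ℕ) = 2 * 2 from rfl, pow_mul, pow_two z, hE.2 z hzD, one_pow])
      hz1').exists_le_sylow
    refine le_antisymm ((Subgroup.card_le_of_le hU).trans (le_of_eq ?_)) ?_
    · rw [U.card_eq_multiplicity, ← T.card_eq_multiplicity, hTP, hPc]
    · rw [← hPc]
      exact Subgroup.card_le_of_le fun p hp => Subgroup.mem_centralizer_singleton_iff.2 (hcen p hp).eq.symm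
  have hai : a⁻¹ = t * d := by rw [hadef, mul_inv_rev, htt, inv_eq_of_mul_eq_one_right (hE.2 d hdD)]
  have hdata : CfsgLib.CentralizerD8.Data z a d := by
    refine ⟨hz1', hE.2 z hzD, ha2, hE.2 d hdD, ?_, ?_,
      Subgroup.mem_centralizer_singleton_iff.2 hzd.eq.symm, hC8⟩
    · rw [hai, hadef, ← mul_assoc, hE.2 d hdD, one_mul, inv_eq_of_mul_eq_one_right (hE.2 d hdD)]
    · intro hmem
      obtain ⟨i, hi⟩ := Subgroup.mem_zpowers_iff.1 hmem
      have hc : Commute d a := by rw [← hi]; exact (Commute.refl a).zpow_left i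
      apply hz1'
      have e : d * a * d⁻¹ = a := mul_inv_eq_iff_eq_mul.2 hc.eq
      have e2 : d * a * d⁻¹ = a⁻¹ := by
        rw [hai, hadef, ← mul_assoc, hE.2 d hdD, one_mul, inv_eq_of_mul_eq_one_right (hE.2 d hdD)]
      rw [← ha2]
      nth_rewrite 1 [← e]
      rw [e2, inv_mul_cancel]
  have hno : ∀ H : Subgroup G, H.index ≠ 2 := by
    intro H hH
    haveI := Subgroup.normal_of_index_eq_two hH
    rcases IsSimpleGroup.eq_bot_or_eq_top_of_normal H inferInstance with e | e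
    · rw [e, Subgroup.index_bot] at hH
      have := Subgroup.card_subgroup_dvd_card P
      rw [hPc, hH] at this
      omega
    · rw [e, Subgroup.index_top] at hH; omega
  rcases hdata.card_eq_of_no_index_two hno with e | e
  · exfalso
    haveI : Fact (Nat.Prime 7) := ⟨by norm_num⟩
    obtain ⟨w, hw⟩ := exists_prime_orderOf_dvd_card' (G := G) 7 (by rw [e]; norm_num)
    obtain ⟨l, hl, hl'⟩ := h.exists_exp w
    have := Nat.le_of_dvd (by omega) (hw ▸ orderOf_dvd_of_pow_eq_one hl')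
    omega
  · exact Or.inr (Cfsg.Agent.S0497.result e)

end Setup

theorem card_decomp (h : Ord5 G) {a b c : ℕ} (ha : 2 ^ a ∣ Nat.card G) (ha' : ¬ 2 ^ (a + 1) ∣ Nat.card G)
    (hb : 3 ^ b ∣ Nat.card G) (hb' : ¬ 3 ^ (b + 1) ∣ Nat.card G) (hc : 5 ^ c ∣ Nat.card G)
    (hc' : ¬ 5 ^ (c + 1) ∣ Nat.card G) : Nat.card G = 2 ^ a * 3 ^ b * 5 ^ c := by
  have h23 : Nat.Coprime (2 ^ a) (3 ^ b) := Nat.Coprime.pow a b (by norm_num)
  have h5 : Nat.Coprime (2 ^ a * 3 ^ b) (5 ^ c) :=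
    Nat.Coprime.mul_left (Nat.Coprime.pow a c (by norm_num)) (Nat.Coprime.pow b c (by norm_num))
  obtain ⟨r, hr⟩ := h5.mul_dvd_of_dvd_of_dvd (h23.mul_dvd_of_dvd_of_dvd ha hb) hc
  suffices r = 1 by rw [hr, this, mul_one]
  by_contra hr1
  obtain ⟨p, hp, hpr⟩ := Nat.exists_prime_and_dvd hr1
  haveI := Fact.mk hp
  have hpG : p ∣ Nat.card G := hr ▸ hpr.mul_left _
  obtain ⟨g, hg⟩ := exists_prime_orderOf_dvd_card' p hpG
  obtain ⟨l, hl, hl'⟩ := h.exists_exp g
  have hd := orderOf_dvd_of_pow_eq_one hl'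
  rw [hg] at hd
  obtain ⟨s, hs⟩ := hpr
  rcases hl with rfl | rfl | rfl
  · obtain rfl := (Nat.prime_dvd_prime_iff_eq hp Nat.prime_three).1 hd
    exact hb' ⟨2 ^ a * 5 ^ c * s, by rw [hr, hs, pow_succ]; ring⟩
  · obtain rfl := (Nat.prime_dvd_prime_iff_eq hp Nat.prime_two).1 (hp.dvd_of_dvd_pow (show p ∣ 2 ^ 2 from hd))
    exact ha' ⟨3 ^ b * 5 ^ c * s, by rw [hr, hs, pow_succ]; ring⟩
  · obtain rfl := (Nat.prime_dvd_prime_iff_eq hp Nat.prime_five).1 hd
    exact hc' ⟨2 ^ a * 3 ^ b * s, by rw [hr, hs, pow_succ]; ring⟩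

namespace Setup

variable {D : Subgroup G} {x t : G} (hS : Setup G D x t)
include hS

local notation "MM" => Subgroup.normalizer ((D : Subgroup G) : Set G)

/-- The case `2⁴ : A₅` does not occur. -/
theorem false_of_sixteen [IsSimpleGroup G] (hG : RF G) (hrec : Rec.{u} (Nat.card G))
    (hD : Nat.card D = 16) (e : ↥MM ⧸ pCore 2 MM ≃* A5) : False := by
  haveI : Fact (Nat.Prime 2) := ⟨Nat.prime_two⟩
  have h := hG.ord
  have hM := h.subgroup MM
  have hE := hS.elem h
  have hMc : Nat.card (↥MM) = 960 := by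
    rw [hS.card_eq, hD, Nat.card_congr e.toEquiv, natCard_A5]
  let π : ↥MM →* A5 := e.toMonoidHom.comp (QuotientGroup.mk' (pCore 2 MM))
  have hπ : Function.Surjective π := e.surjective.comp (QuotientGroup.mk'_surjective _)
  have hπker : ∀ w : ↥MM, π w = 1 ↔ (w : G) ∈ D := fun w => by
    rw [← hS.mem_core_iff]
    exact (MulEquiv.map_eq_one_iff e).trans (QuotientGroup.eq_one_iff w)
  set P := (a5V.comap π).map (MM).subtype with hPdef
  have hPM : P ≤ MM := Subgroup.map_subtype_le _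
  have hPmem : ∀ w : ↥MM, (w : G) ∈ P ↔ π w ∈ a5V := fun w =>
    ⟨fun ⟨v, hv, hve⟩ => Subtype.ext hve ▸ hv, fun hw => ⟨w, hw, rfl⟩⟩
  have hPc : Nat.card P = 64 := by
    rw [hPdef, Subgroup.card_map_of_injective (MM).subtype_injective]
    have h1 := (a5V.comap π).card_mul_index
    rw [Subgroup.index_comap_of_surjective _ hπ, hMc] at h1
    have h2 := a5V.card_mul_index
    rw [a5V_card, natCard_A5] at h2
    have : a5V.index = 15 := by omega
    rw [this] at h1
    omega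
  have hP : SylIn MM P := by
    refine ⟨hPM, IsPGroup.of_card (n := 6) (by rw [hPc]; norm_num), fun Q hQ hQp => ?_⟩
    obtain ⟨n, hn⟩ := IsPGroup.iff_card.1 hQp
    have hd : 2 ^ n ∣ 2 ^ 6 * 15 := by
      rw [← hn, show 2 ^ 6 * 15 = Nat.card (↥MM) by rw [hMc]; norm_num]
      exact Subgroup.card_dvd_of_le hQ
    have := (((Nat.Prime.coprime_iff_not_dvd Nat.prime_two).2 (by norm_num : ¬ 2 ∣ 15)).pow_left n).dvd_of_dvd_mul_right hd
    rw [hn, hPc]
    exact Nat.le_of_dvd (by norm_num) this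
  have hDP : D ≤ P := hS.core_eq.ge.trans hP.core_le
  obtain ⟨T, hT⟩ := hP.isPGroup.exists_le_sylow
  -- the two elementary subgroups of order sixteen
  have hR4 : ∀ a ∈ P, a ∉ D → a * a = 1 → Nat.card (D ⊓ Subgroup.centralizer ({a} : Set G) : Subgroup G) = 4 :=
    fun a ha haD ha2 => Nat.mul_self_inj.1
      ((hS.fixed_card hrec h (hPM ha) haD (by rw [ha2]; exact D.one_mem)).trans hD)
  have facts : ∀ E : Subgroup G, Elem E → E ≤ P → Nat.card E = 16 → E ≠ D →
      (∀ a ∈ E, a ∉ D → D ⊓ Subgroup.centralizer ({a} : Set G) = E ⊓ D) ∧ E ⊔ D = P ∧ ∃ a ∈ E, a ∉ D := by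
    intro E hEE hEP hEc hne
    have hnot : ¬ E ≤ D := fun hle => hne (Subgroup.eq_of_le_of_card_ge hle (by rw [hEc, hD]))
    obtain ⟨a, haE, haD⟩ := SetLike.not_le_iff_exists.1 hnot
    have hle : ∀ b ∈ E, E ⊓ D ≤ D ⊓ Subgroup.centralizer ({b} : Set G) := fun b hb v hv =>
      ⟨hv.2, Subgroup.mem_centralizer_singleton_iff.2 (hEE.1 v hv.1 b hb).eq⟩
    have h4 : Nat.card (E ⊓ D : Subgroup G) ≤ 4 :=
      (Subgroup.card_le_of_le (hle a haE)).trans (le_of_eq (hR4 a (hEP haE) haD (hEE.2 a haE)))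
    have hsup : Nat.card (E ⊔ D : Subgroup G) ≤ 64 := hPc ▸ Subgroup.card_le_of_le (sup_le hEP hDP)
    have hmul := CfsgLib.LocalP.card_mul_le_card_sup_mul_card_inf E D
    rw [hEc, hD] at hmul
    refine ⟨fun b hb hbD => (Subgroup.eq_of_le_of_card_ge (hle b hb) ?_).symm,
      Subgroup.eq_of_le_of_card_ge (sup_le hEP hDP) ?_, a, haE, haD⟩
    · rw [hR4 b (hEP hb) hbD (hEE.2 b hb)]
      nlinarith
    · rw [hPc]
      nlinarith
  have only_two : ∀ W E : Subgroup G, Elem W → W ≤ P → Nat.card W = 16 → W ≠ D →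
      Elem E → E ≤ P → Nat.card E = 16 → E ≠ D → E = W := by
    intro W E hW hWP hWc hWne hE' hEP hEc hEne
    obtain ⟨w1, w2, -⟩ := facts W hW hWP hWc hWne
    have hWn : W ≤ MM := hWP.trans hPM
    have inv_mem : ∀ b ∈ P, b ∉ D → b * b = 1 → b ∈ W := by
      intro b hb hbD hb2
      have hb' : b ∈ (↑(W ⊔ D) : Set G) := by rw [w2]; exact hb
      rw [Subgroup.coe_mul_of_left_le_normalizer_right W D hWn] at hb'
      obtain ⟨u, hu, v, hv, rfl⟩ := hb'
      have huD : u ∉ D := fun hh => hbD (D.mul_mem hh hv)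
      have hc : Commute u v := by
        show u * v = v * u
        calc u * v = v⁻¹ * u⁻¹ := by rw [← mul_inv_rev]; exact eq_inv_of_mul_eq_one_left hb2
          _ = v * u := by rw [inv_eq_of_mul_eq_one_right (hE.2 v hv), inv_eq_of_mul_eq_one_right (hW.2 u hu)]
      have : v ∈ W ⊓ D := (w1 u hu huD).le ⟨hv, Subgroup.mem_centralizer_singleton_iff.2 hc.eq.symm⟩
      exact W.mul_mem hu this.1
    obtain ⟨e1, -, a, haE, haD⟩ := facts E hE' hEP hEc hEne
    refine Subgroup.eq_of_le_of_card_ge (fun b hb => ?_) (by rw [hEc, hWc])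
    by_cases hbD : b ∈ D
    · have h1 : b ∈ D ⊓ Subgroup.centralizer ({a} : Set G) := (e1 a haE haD).ge ⟨hb, hbD⟩
      have haW := inv_mem a (hEP haE) haD (hE'.2 a haE)
      exact ((w1 a haW haD).le h1).1
    · exact inv_mem b (hEP hb) hbD (hE'.2 b hb)
  obtain ⟨xσ, hxσ⟩ := hπ a5x
  obtain ⟨hx5, hx51, hxV⟩ := a5_x
  have hx3 : xσ ^ 3 = 1 := hM.pow_of_image π (by omega) (by rw [hxσ]; exact hx5) (by rw [hxσ]; exact hx51)
  set X : G := (xσ : G) with hXdef
  have hX3 : X ^ 3 = 1 := congrArg Subtype.val hx3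
  have hX1 : X ≠ 1 := fun e1 => hx51 (by rw [← hxσ, show xσ = 1 from Subtype.ext e1, map_one])
  have hXP : ∀ p ∈ P, X * p * X⁻¹ ∈ P := by
    intro p hp
    have h1 : π ⟨p, hPM hp⟩ ∈ a5V := (hPmem _).1 hp
    refine (hPmem (xσ * ⟨p, hPM hp⟩ * xσ⁻¹)).2 ?_
    rw [map_mul, map_mul, map_inv, hxσ]
    exact hxV _ h1
  have hTP : (T : Subgroup G) = P := by
    by_contra hne
    haveI : Group.IsNilpotent (T : Subgroup G) := T.2.isNilpotent
    have hlt1 : P.subgroupOf (T : Subgroup G) < ⊤ := lt_top_iff_ne_top.2 fun e =>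
      hne (le_antisymm (Subgroup.subgroupOf_eq_top.1 e) hT)
    obtain ⟨⟨g₀, hg₀T⟩, hg₀, hg₀P⟩ := SetLike.exists_of_lt (Group.normalizerCondition_of_isNilpotent _ hlt1)
    have hn₀ : g₀ ∈ Subgroup.normalizer (P : Set G) := Subgroup.mem_normalizer_fintype fun p hp =>
      (Subgroup.mem_normalizer_iff.1 hg₀ ⟨p, hT hp⟩).1 hp
    obtain ⟨g, hgT, hgP, hgn, hg2⟩ : ∃ g ∈ (T : Subgroup G), g ∉ P ∧ g ∈ Subgroup.normalizer (P : Set G) ∧ g * g ∈ P := by
      by_cases hs : g₀ * g₀ ∈ P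
      · exact ⟨g₀, hg₀T, fun e => hg₀P e, hn₀, hs⟩
      · refine ⟨g₀ * g₀, (T : Subgroup G).mul_mem hg₀T hg₀T, hs, Subgroup.mul_mem _ hn₀ hn₀, ?_⟩
        rw [show g₀ * g₀ * (g₀ * g₀) = g₀ ^ 4 by simp only [pow_succ, pow_zero, one_mul, mul_assoc],
          h.pow_of_isPGroup (Or.inl ⟨rfl, rfl⟩) T.2 hg₀T]
        exact P.one_mem
    have hgM : g ∉ MM := fun hgM => hgP ((Subgroup.eq_of_le_of_card_ge (le_sup_left : P ≤ P ⊔ Subgroup.zpowers g)
      (hP.max _ (sup_le hP.le (Subgroup.zpowers_le.2 hgM))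
        (T.2.to_le (sup_le hT (Subgroup.zpowers_le.2 hgT))))).ge (le_sup_right (a := P) (Subgroup.mem_zpowers g)))
    let cj : G → Subgroup G → Subgroup G := fun g H => H.map (MulAut.conj g).toMonoidHom
    have cjP : ∀ w ∈ Subgroup.normalizer (P : Set G), ∀ E ≤ P, cj w E ≤ P := by
      rintro w hw E hEle _ ⟨v, hv, rfl⟩
      exact (Subgroup.mem_normalizer_iff.1 hw v).1 (hEle hv)
    have cjc : ∀ (w : G) (E : Subgroup G), Nat.card (cj w E) = Nat.card E := fun w E =>
      Subgroup.card_map_of_injective (MulAut.conj w).injective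
    set W := cj g D with hWdef
    have hWne : W ≠ D := fun e1 => hgM (mem_normalizer_of_map_eq e1)
    have hXn : X ∈ Subgroup.normalizer (P : Set G) := Subgroup.mem_normalizer_fintype hXP
    set y := g * X * g⁻¹ with hy
    have hyn : y ∈ Subgroup.normalizer (P : Set G) :=
      Subgroup.mul_mem _ (Subgroup.mul_mem _ hgn hXn) (Subgroup.inv_mem _ hgn)
    have hy3 : y ^ 3 = 1 := by rw [hy, conj_pow, hX3, mul_one, mul_inv_cancel]
    have hy1 : y ≠ 1 := fun e1 => hX1 (conj_eq_one_iff.1 e1)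
    have hyM : y ∈ MM := by
      refine mem_normalizer_of_map_eq ?_
      by_contra hne1
      have hW' : cj y D = W := only_two W (cj y D) (hE.map _) (cjP g hgn D hDP) ((cjc g D).trans hD) hWne
        (hE.map _) (cjP y hyn D hDP) ((cjc y D).trans hD) hne1
      have hDW : cj y W = D := by
        by_contra hne2
        have : cj y W = W := only_two W (cj y W) (hE.map _) (cjP g hgn D hDP) ((cjc g D).trans hD) hWne
          ((hE.map _).map _) (cjP y hyn W (cjP g hgn D hDP)) ((cjc y W).trans ((cjc g D).trans hD)) hne2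
        exact hWne (Subgroup.map_injective (MulAut.conj y).injective (this.trans hW'.symm))
      have hy2 : y * y ∈ MM := mem_normalizer_of_map_eq (by
        calc cj (y * y) D = cj y (cj y D) := by
              simp only [cj, Subgroup.map_map]; congr 1; ext v; simp [mul_assoc]
          _ = D := by rw [hW', hDW])
      have : y ∈ MM := by
        have e1 : y = y * y * (y * y) := by
          rw [show y * y * (y * y) = y ^ 3 * y by simp only [pow_succ, pow_zero, one_mul, mul_assoc], hy3, one_mul]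
        rw [e1]; exact Subgroup.mul_mem _ hy2 hy2
      exact hne1 (le_antisymm (by rintro _ ⟨d, hd, rfl⟩; exact hS.conj_mem this hd)
        (fun d hd => ⟨y⁻¹ * d * y, by simpa using hS.conj_mem (Subgroup.inv_mem _ this) hd, by simp [mul_assoc]⟩))
    set yσ : ↥MM := ⟨y, hyM⟩ with hyσ
    have hπy : π yσ ^ 3 = 1 ∧ π yσ ≠ 1 := by
      refine ⟨by rw [← map_pow, show yσ ^ 3 = 1 from Subtype.ext hy3, map_one], fun e1 => hy1 ?_⟩
      exact eq_one_of_pow_coprime (by norm_num) hy3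
        (h.pow_of_isPGroup (Or.inl ⟨rfl, rfl⟩) hS.pD ((hπker yσ).1 e1))
    have hyV : ∀ v ∈ a5V, v ≠ 1 → π yσ * v * (π yσ)⁻¹ = a5a ∨ π yσ * v * (π yσ)⁻¹ = a5b ∨
        π yσ * v * (π yσ)⁻¹ = a5a * a5b := by
      intro v hv hv1
      obtain ⟨w, rfl⟩ := hπ v
      have hmem : π (yσ * w * yσ⁻¹) ∈ a5V :=
        (hPmem _).1 ((Subgroup.mem_normalizer_iff.1 hyn (w : G)).1 ((hPmem w).2 hv))
      rw [map_mul, map_mul, map_inv] at hmem
      rcases hmem with r | r
      · exact absurd (conj_eq_one_iff.1 r) hv1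
      · exact r
    obtain ⟨-, -, ha1, hb1, -, -⟩ := a5_four
    obtain ⟨v, hv, hvx⟩ := a5_norm _ hπy.1 hπy.2 (hyV _ (Or.inr (Or.inl rfl)) ha1)
      (hyV _ (Or.inr (Or.inr (Or.inl rfl))) hb1)
    have step : ∀ X' : ↥MM, π yσ = v * π X' → y * (X' : G)⁻¹ ∈ P := fun X' hX' => by
      refine (hPmem (yσ * X'⁻¹)).2 ?_
      rw [map_mul, map_inv, hX', mul_inv_cancel_right]
      exact hv
    have fin : ∀ X' : G, X' ^ 3 = 1 → X' ≠ 1 → (∀ p ∈ P, X' * p * X'⁻¹ ∈ P) → y * X'⁻¹ ∈ P →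
        ∃ r ∈ P, r * X' * r⁻¹ = y := fun X' h3 h1 hn hm => by
      obtain ⟨r, hr, hre⟩ := exists_conj_eq hn (h.fpf hP.isPGroup (Or.inl rfl) h3 h1) hm
      exact ⟨r, hr, by rw [hre, inv_mul_cancel_right]⟩
    have hXP' : ∀ p ∈ P, X⁻¹ * p * X⁻¹⁻¹ ∈ P := fun p hp => by
      have hxx : X⁻¹ = X * X := inv_eq_of_mul_eq_one_right (by
        rw [← hX3]; simp only [pow_succ, pow_zero, one_mul, mul_assoc])
      rw [show X⁻¹ * p * X⁻¹⁻¹ = X * (X * p * X⁻¹) * X⁻¹ by
        rw [show X * (X * p * X⁻¹) * X⁻¹ = X * X * p * (X * X)⁻¹ by group, ← hxx]]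
      exact hXP _ (hXP p hp)
    rcases hvx with r | r
    · obtain ⟨r', hr', hre⟩ := fin X hX3 hX1 hXP (step xσ (by rw [hxσ]; exact r))
      set g' := r'⁻¹ * g with hg'
      have hc : Commute g' X := mul_inv_eq_iff_eq_mul.1 (by
        calc g' * X * g'⁻¹ = r'⁻¹ * y * r' := by rw [hg', hy]; group
          _ = X := by rw [← hre]; group)
      have h3 : g' ^ 3 = 1 := h.pow_eq_one_of_commute (by omega) hX3 hX1 hc.symm
      have h2 : g' * g' ∈ P := by
        rw [show g' * g' = r'⁻¹ * (g * r'⁻¹ * g⁻¹) * (g * g) by rw [hg']; group]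
        exact P.mul_mem (P.mul_mem (P.inv_mem hr') ((Subgroup.mem_normalizer_iff.1 hgn _).1 (P.inv_mem hr'))) hg2
      apply hgP
      have hg'P : g' ∈ P := by
        rw [show g' = g' * g' * (g' * g') by
          rw [show g' * g' * (g' * g') = g' ^ 3 * g' by simp only [pow_succ, pow_zero, one_mul, mul_assoc], h3, one_mul]]
        exact P.mul_mem h2 h2
      have := P.mul_mem hr' hg'P
      rwa [hg', mul_inv_cancel_left] at this
    · obtain ⟨r', hr', hre⟩ := fin X⁻¹ (by rw [inv_pow, hX3, inv_one]) (inv_ne_one.2 hX1) hXP'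
        (step xσ⁻¹ (by rw [map_inv, hxσ]; exact r))
      set g' := r'⁻¹ * g with hg'
      have hgn' : g' ∈ Subgroup.normalizer (P : Set G) :=
        Subgroup.mul_mem _ (Subgroup.inv_mem _ (Subgroup.le_normalizer hr')) hgn
      have := hS.maxD P hP.isPGroup ⟨X, g', hX3, hX1, by
        calc g' * X * g'⁻¹ = r'⁻¹ * y * r' := by rw [hg', hy]; group
          _ = X⁻¹ := by rw [← hre]; group, hXn, hgn'⟩
      omega
  -- the order of `G`
  obtain ⟨hy5, hy51, s, hs⟩ := a5_five_inverted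
  obtain ⟨yσ, τ, hyp, hyne, -, -, hτ⟩ := hM.exists_inverted_lift CfsgLib.Constrained.isPGroup_pCore
    (Or.inr rfl) (k := e.symm a5y) (s := e.symm s) (by rw [← map_pow, hy5, map_one]) (by simpa using hy51)
    (by rw [← map_inv, ← map_mul, ← map_mul, hs, map_inv])
  obtain ⟨b, i, N₃, hb, hi, hbd, hbd', hid, hN₃, hN₃'⟩ :=
    h.sylow_congruence (p := 3) (Or.inl rfl) hS.hx hS.hx1 hS.ht
  obtain ⟨c, j, N₅, hc, hj, hcd, hcd', hjd, hN₅, hN₅'⟩ := h.sylow_congruence (p := 5) (Or.inr rfl)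
    (y := (yσ : G)) (t := (τ : G)) (congrArg Subtype.val hyp) (fun e1 => hyne (Subtype.ext e1))
    (congrArg Subtype.val hτ)
  have hT64 : Nat.card (T : Subgroup G) = 2 ^ 6 := by rw [hTP, hPc]; norm_num
  have h2max : ¬ 2 ^ 7 ∣ Nat.card G := fun hd => by
    rw [T.card_eq_multiplicity] at hT64
    have := (Nat.prime_two.pow_dvd_iff_le_factorization Nat.card_pos.ne').1 hd
    have := Nat.pow_right_injective (le_refl 2) hT64
    omega
  have hcard : Nat.card G = 2 ^ 6 * 3 ^ b * 5 ^ c :=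
    card_decomp h (hT64 ▸ Subgroup.card_subgroup_dvd_card _) h2max hbd hbd' hcd hcd'
  have hsmall : ∀ k, 2 ^ k ∣ Nat.card G → k ≤ 6 := fun k hk => by
    by_contra hlt
    exact h2max ((pow_dvd_pow 2 (by omega : 7 ≤ k)).trans hk)
  have d3 : 3 ^ b ∣ 64 * 5 ^ c - 2 ^ i := by
    have e1 : 64 * 5 ^ c = 2 ^ i * N₃ := by
      refine Nat.eq_of_mul_eq_mul_left (pow_pos (show 0 < 3 by norm_num) b) ?_
      calc 3 ^ b * (64 * 5 ^ c) = Nat.card G := by rw [hcard]; ring
        _ = 3 ^ b * (2 ^ i * N₃) := by rw [hN₃]; ring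
    rw [e1]
    nth_rewrite 2 [← mul_one (2 ^ i)]
    rw [← Nat.mul_sub]
    exact hN₃'.mul_left _
  have d5 : 5 ^ c ∣ 64 * 3 ^ b - 2 ^ j := by
    have e1 : 64 * 3 ^ b = 2 ^ j * N₅ := by
      refine Nat.eq_of_mul_eq_mul_left (pow_pos (show 0 < 5 by norm_num) c) ?_
      calc 5 ^ c * (64 * 3 ^ b) = Nat.card G := by rw [hcard]; ring
        _ = 5 ^ c * (2 ^ j * N₅) := by rw [hN₅]; ring
    rw [e1]
    nth_rewrite 2 [← mul_one (2 ^ j)]
    rw [← Nat.mul_sub]
    exact hN₅'.mul_left _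
  obtain ⟨rfl, rfl⟩ := only_small hb hc (hsmall i hid) (hsmall j hjd) hi hj d3 d5
  have htop : MM = ⊤ := Subgroup.eq_top_of_card_eq _ (by rw [hMc, hcard]; norm_num)
  haveI := hS.pD.isNilpotent
  exact hS.ne_bot (hG.radical D (Subgroup.normalizer_eq_top_iff.1 htop) inferInstance)

/-- The conclusion in the first case. -/
theorem concl [IsSimpleGroup G] (hG : RF G) (hrec : Rec.{u} (Nat.card G)) : Concl G := by
  haveI : Fact (Nat.Prime 2) := ⟨Nat.prime_two⟩
  have h := hG.ord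
  obtain ⟨ht2, -⟩ := h.inverting (Or.inl rfl) hS.hx hS.hx1 hS.ht
  have hr := hS.fixed_card hrec h hS.tN (hS.t_not_mem h) (by rw [ht2]; exact D.one_mem)
  set r := Nat.card (D ⊓ Subgroup.centralizer ({t} : Set G) : Subgroup G)
  obtain ⟨n, hn⟩ := IsPGroup.iff_card.1 hS.pD
  have hn0 : n ≠ 0 := fun e => hS.ne_bot (Subgroup.eq_bot_of_card_eq _ (by rw [hn, e, pow_zero]))
  have hm3 : Nat.card D % 3 = 1 % 3 := card_modEq_one Nat.prime_three hS.hx D
    (fun d hd => hS.conj_mem hS.xN hd) (h.fpf hS.pD (Or.inl rfl) hS.hx hS.hx1)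
  rcases hS.quotient_cases hrec h with ⟨hM, -⟩ | ⟨⟨e⟩⟩
  · have hk : ∀ P, SylIn MM P → Nat.card P = 2 * Nat.card D := fun P hP => by
      rw [hn, ← pow_succ', hP.card_eq (a := n + 1) (r := 3) ?_ (by norm_num)]
      rw [hM, hn, pow_succ]; ring
    rcases Nat.lt_or_ge 2 r with hkr | hkr
    · exact absurd hkr (fun hh => (hS.false_of_large hrec hG hk hr hh).elim)
    refine hS.concl_of_four hG hrec ?_ hM
    have : 2 ≤ Nat.card D := by rw [hn]; exact le_self_pow₀ (by norm_num) hn0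
    interval_cases r <;> omega
  · exfalso
    have hk : ∀ P, SylIn MM P → Nat.card P = 4 * Nat.card D := fun P hP => by
      have hMc : Nat.card (↥MM) = 2 ^ (n + 2) * 15 := by
        rw [hS.card_eq, Nat.card_congr e.toEquiv, natCard_A5, hn, pow_add]; ring
      rw [hP.card_eq hMc (by norm_num), hn, pow_add]; ring
    rcases Nat.lt_or_ge 4 r with hkr | hkr
    · exact hS.false_of_large hrec hG hk hr hkr
    obtain ⟨hy5, hy51, s, hs⟩ := a5_five_inverted
    obtain ⟨yσ, τ, hyp, hyne, -, -, -⟩ := (h.subgroup MM).exists_inverted_lift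
      CfsgLib.Constrained.isPGroup_pCore (Or.inr rfl) (k := e.symm a5y) (s := e.symm s)
      (by rw [← map_pow, hy5, map_one]) (by simpa using hy51)
      (by rw [← map_inv, ← map_mul, ← map_mul, hs, map_inv])
    have hm5 : Nat.card D % 5 = 1 % 5 := card_modEq_one Nat.prime_five (congrArg Subtype.val hyp) D
      (fun d hd => hS.conj_mem yσ.2 hd)
      (h.fpf hS.pD (Or.inr rfl) (congrArg Subtype.val hyp) (fun e1 => hyne (Subtype.ext e1)))
    refine hS.false_of_sixteen hG hrec ?_ e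
    have : 2 ≤ Nat.card D := by rw [hn]; exact le_self_pow₀ (by norm_num) hn0
    interval_cases r <;> omega

end Setup

/-- A simple group with element orders at most five, given the classification below its order. -/
theorem concl_simple [IsSimpleGroup G] (hrec : Rec.{u} (Nat.card G)) (hG : RF G) : Concl G := by
  by_cases hno : NoLocalS3 G
  · exact concl_of_noLocalS3 hrec hG hno
  obtain ⟨E, hE, hmax⟩ := Set.exists_max_image
    {E : Subgroup G | IsPGroup 2 E ∧ E ≠ ⊥ ∧ HasS3 E} (fun E => Nat.card E) (Set.toFinite _) (by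
      simp only [NoLocalS3, not_forall] at hno
      obtain ⟨D, hD, hD1, x, t, hx, hx1, ht, hxN, htN, -⟩ := hno
      exact ⟨D, hD, hD1, x, t, hx, hx1, ht, hxN, htN⟩)
  obtain ⟨hEp, hE1, x, t, hx, hx1, ht, hxN, htN⟩ := hE
  refine Setup.concl (D := E) (x := x) (t := t) ⟨hEp, hE1, hx, hx1, ht, hxN, htN, fun F hF hS3 => ?_⟩ hG hrec
  by_cases hF1 : F = ⊥
  · rw [hF1, Subgroup.card_bot]; exact Nat.card_pos
  · exact hmax F ⟨hF, hF1, hS3⟩

end CfsgLib.SpecFive
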