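import Cfsg.Agent.SpecFive.Offenders
import Cfsg.Agent.BaerSuzuki.Classes
import Cfsg.Agent.S1163
import Cfsg.Agent.CommutingSLTwo.Basic
import Cfsg.Agent.S0494

/-!
# A simple group with element orders at most five without inverted elements of order three in 2-locals
-/

set_option autoImplicit false
set_option linter.unusedSectionVars false
set_option linter.style.haveILetI false

namespace CfsgLib.SpecFive

open Cfsg
open scoped Pointwise

universe u

variable {G : Type u} [Group G] [Finite G]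

/-- `P` is a Sylow 2-subgroup of `M`. -/
structure SylIn (M P : Subgroup G) : Prop where
  le : P ≤ M
  isPGroup : IsPGroup 2 P
  max : ∀ Q ≤ M, IsPGroup 2 Q → Nat.card Q ≤ Nat.card P

theorem exists_sylIn (M : Subgroup G) {X : Subgroup G} (hX : X ≤ M) (hXp : IsPGroup 2 X) :
    ∃ P, X ≤ P ∧ SylIn M P := by
  haveI : Fact (Nat.Prime 2) := ⟨Nat.prime_two⟩
  obtain ⟨Q, hQ⟩ := (hXp.of_equiv (Subgroup.subgroupOfEquivOfLe hX).symm).exists_le_sylow
  refine ⟨(Q : Subgroup M).map M.subtype, ?_, Subgroup.map_subtype_le _, Q.2.map _, fun R hR hRp => ?_⟩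
  · intro x hx
    exact ⟨⟨x, hX hx⟩, hQ (Subgroup.mem_subgroupOf.2 hx), rfl⟩
  · obtain ⟨T, hT⟩ := (hRp.of_equiv (Subgroup.subgroupOfEquivOfLe hR).symm).exists_le_sylow
    rw [Subgroup.card_map_of_injective M.subtype_injective, Q.card_eq_multiplicity,
      ← T.card_eq_multiplicity, ← Nat.card_congr (Subgroup.subgroupOfEquivOfLe hR).toEquiv]
    exact Subgroup.card_le_of_le hT

theorem SylIn.exists_conj {M P Q : Subgroup G} (hP : SylIn M P) (hQ : SylIn M Q) :
    ∃ g ∈ M, P.map (MulAut.conj g).toMonoidHom = Q := by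
  haveI : Fact (Nat.Prime 2) := ⟨Nat.prime_two⟩
  obtain ⟨S, hS⟩ := (hP.isPGroup.of_equiv (Subgroup.subgroupOfEquivOfLe hP.le).symm).exists_le_sylow
  obtain ⟨T, hT⟩ := (hQ.isPGroup.of_equiv (Subgroup.subgroupOfEquivOfLe hQ.le).symm).exists_le_sylow
  obtain ⟨g, hg⟩ := MulAction.exists_smul_eq M S T
  have back : ∀ (R : Sylow 2 M) (A : Subgroup G), SylIn M A → A.subgroupOf M ≤ (R : Subgroup M) →
      A = (R : Subgroup M).map M.subtype := by
    intro R A hA hle
    refine Subgroup.eq_of_le_of_card_ge (fun x hx => ⟨⟨x, hA.le hx⟩, hle (Subgroup.mem_subgroupOf.2 hx), rfl⟩)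
      (hA.max _ (Subgroup.map_subtype_le _) (R.2.map _))
  refine ⟨g, g.2, ?_⟩
  rw [back S P hP hS, back T Q hQ hT, ← hg]
  ext x
  constructor
  · rintro ⟨_, ⟨y, hy, rfl⟩, rfl⟩
    exact ⟨g * y * g⁻¹, Subgroup.smul_mem_pointwise_smul y (MulAut.conj g) (S : Subgroup M) hy, rfl⟩
  · rintro ⟨_, ⟨y, hy, rfl⟩, rfl⟩
    exact ⟨y, ⟨y, hy, rfl⟩, rfl⟩

theorem SylIn.core_le {M P : Subgroup G} (hP : SylIn M P) :
    (pCore 2 M).map M.subtype ≤ P := by
  haveI : Fact (Nat.Prime 2) := ⟨Nat.prime_two⟩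
  set O := (pCore 2 M).map M.subtype
  have hOM : O ≤ M := Subgroup.map_subtype_le _
  have hn : P ≤ Subgroup.normalizer (O : Set G) := fun g hg => by
    refine Subgroup.mem_normalizer_fintype fun x hx => ?_
    obtain ⟨w, hw, rfl⟩ := hx
    exact ⟨⟨g, hP.le hg⟩ * w * ⟨g, hP.le hg⟩⁻¹, (inferInstance : (pCore 2 M).Normal).conj_mem w hw _, rfl⟩
  have hp : IsPGroup 2 (P ⊔ O : Subgroup G) :=
    hP.isPGroup.to_sup_of_normal_right' (CfsgLib.Constrained.isPGroup_pCore.map _) hn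
  rw [Subgroup.eq_of_le_of_card_ge (le_sup_left : P ≤ P ⊔ O) (hP.max _ (sup_le hP.le hOM) hp)]
  exact le_sup_right

/-- The elementary abelian subgroups of largest order. -/
def maxEA (P : Subgroup G) : Set (Subgroup G) :=
  {A | A ≤ P ∧ Elem A ∧ ∀ B ≤ P, Elem B → Nat.card B ≤ Nat.card A}

/-- The subgroup they generate. -/
def J (P : Subgroup G) : Subgroup G := sSup (maxEA P)

theorem exists_maxEA (P : Subgroup G) : ∃ A, A ∈ maxEA P := by
  obtain ⟨A, ⟨hA, hA'⟩, hmax⟩ := Set.exists_max_image {A : Subgroup G | A ≤ P ∧ Elem A}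
    (fun A => Nat.card A) (Set.toFinite _)
    ⟨⊥, bot_le, fun a ha b hb => by rw [Subgroup.mem_bot.1 ha]; exact Commute.one_left b,
      fun a ha => by rw [Subgroup.mem_bot.1 ha, one_mul]⟩
  exact ⟨A, hA, hA', fun B hB hB' => hmax B ⟨hB, hB'⟩⟩

theorem J_le (P : Subgroup G) : J P ≤ P := sSup_le fun _ hA => hA.1

theorem Elem.map {A : Subgroup G} (hA : Elem A) (f : G →* G) : Elem (A.map f) :=
  ⟨by rintro _ ⟨a, ha, rfl⟩ _ ⟨b, hb, rfl⟩; exact (hA.1 a ha b hb).map f,
    by rintro _ ⟨a, ha, rfl⟩; rw [← map_mul, hA.2 a ha, map_one]⟩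

theorem maxEA_map {P : Subgroup G} (e : G ≃* G) {A : Subgroup G} (hA : A ∈ maxEA P) :
    A.map e.toMonoidHom ∈ maxEA (P.map e.toMonoidHom) := by
  refine ⟨Subgroup.map_mono hA.1, hA.2.1.map _, fun B hB hBE => ?_⟩
  have hle : B.map e.symm.toMonoidHom ≤ P := by
    rintro _ ⟨b, hb, rfl⟩
    obtain ⟨p, hp, rfl⟩ := hB hb
    simpa using hp
  have := hA.2.2 _ hle (hBE.map _)
  rw [Subgroup.card_map_of_injective e.symm.injective] at this
  exact this.trans (le_of_eq (Subgroup.card_map_of_injective e.injective).symm)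

theorem J_map (P : Subgroup G) (e : G ≃* G) : J (P.map e.toMonoidHom) = (J P).map e.toMonoidHom := by
  refine le_antisymm (sSup_le fun A hA => ?_) ?_
  · have h1 := maxEA_map e.symm hA
    rw [Subgroup.map_map, show e.symm.toMonoidHom.comp e.toMonoidHom = MonoidHom.id G from
      MonoidHom.ext fun x => by simp, Subgroup.map_id] at h1
    intro a ha
    exact ⟨e.symm a, le_sSup h1 ⟨a, ha, rfl⟩, by simp⟩
  · rw [J, sSup_eq_iSup, Subgroup.map_iSup]
    refine iSup_le fun A => ?_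
    rw [Subgroup.map_iSup]
    exact iSup_le fun hA => le_sSup (maxEA_map e hA)

theorem J_ne_bot {P : Subgroup G} (hP : IsPGroup 2 P) (hP1 : P ≠ ⊥) : J P ≠ ⊥ := by
  haveI : Fact (Nat.Prime 2) := ⟨Nat.prime_two⟩
  obtain ⟨A, hA⟩ := exists_maxEA P
  intro e
  have hA1 : A = ⊥ := le_bot_iff.1 (e ▸ le_sSup hA)
  haveI : Nontrivial P := P.nontrivial_iff_ne_bot.2 hP1
  obtain ⟨n, hn⟩ := IsPGroup.iff_card.1 hP
  have h2 : 2 ∣ Nat.card P := by
    rw [hn]
    refine dvd_pow_self 2 fun e0 => ?_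
    rw [e0, pow_zero] at hn
    exact (Finite.one_lt_card (α := P)).ne' hn
  obtain ⟨z, hz⟩ := exists_prime_orderOf_dvd_card' 2 h2
  rw [← Subgroup.orderOf_coe] at hz
  have hzz : (z : G) * z = 1 := by rw [← pow_two, ← hz, pow_orderOf_eq_one]
  have hle := hA.2.2 (Subgroup.zpowers (z : G)) (Subgroup.zpowers_le.2 z.2) ⟨fun a ha b hb => by
      obtain ⟨i, rfl⟩ := Subgroup.mem_zpowers_iff.1 ha
      obtain ⟨j, rfl⟩ := Subgroup.mem_zpowers_iff.1 hb
      exact ((Commute.refl _).zpow_left i).zpow_right j, fun a ha => by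
      obtain ⟨i, rfl⟩ := Subgroup.mem_zpowers_iff.1 ha
      rw [← (Commute.refl (z : G)).mul_zpow, hzz, one_zpow]⟩
  rw [hA1, Subgroup.card_bot, Nat.card_zpowers, hz] at hle
  omega

/-- No 2-local contains an inverted element of order three. -/
def NoLocalS3 (G : Type u) [Group G] : Prop :=
  ∀ D : Subgroup G, IsPGroup 2 D → D ≠ ⊥ → ∀ x t : G, x ^ 3 = 1 → x ≠ 1 → t * x * t⁻¹ = x⁻¹ →
    x ∈ Subgroup.normalizer (D : Set G) → t ∈ Subgroup.normalizer (D : Set G) → False

theorem NoLocalS3.noS3 (hno : NoLocalS3 G) {D : Subgroup G} (hD : IsPGroup 2 D) (hD1 : D ≠ ⊥) :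
    NoS3 (Subgroup.normalizer (D : Set G)) := fun x t hx hx1 ht =>
  hno D hD hD1 x t (congrArg Subtype.val hx) (fun e => hx1 (Subtype.ext e)) (congrArg Subtype.val ht) x.2 t.2

theorem pCore_normalizer_ne_bot {D : Subgroup G} (hD : IsPGroup 2 D) (hD1 : D ≠ ⊥) :
    pCore 2 (Subgroup.normalizer (D : Set G)) ≠ ⊥ := by
  haveI : Fact (Nat.Prime 2) := ⟨Nat.prime_two⟩
  haveI : (D.subgroupOf (Subgroup.normalizer (D : Set G))).Normal := Subgroup.normal_in_normalizer
  intro e
  have hle := CfsgLib.Constrained.le_pCore (inferInstance : (D.subgroupOf _).Normal)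
    (hD.of_equiv (Subgroup.subgroupOfEquivOfLe Subgroup.le_normalizer).symm)
  rw [e, le_bot_iff, Subgroup.subgroupOf_eq_bot, disjoint_iff, inf_of_le_left Subgroup.le_normalizer] at hle
  exact hD1 hle

/-- In a 2-local all largest elementary abelian subgroups of a Sylow 2-subgroup lie in the core, so
their join is invariant. -/
theorem J_invariant (hrec : Rec.{u} (Nat.card G)) (h : Ord5 G) (hno : NoLocalS3 G) {D P : Subgroup G}
    (hD : IsPGroup 2 D) (hD1 : D ≠ ⊥) (hP : SylIn (Subgroup.normalizer (D : Set G)) P) {g : G}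
    (hg : g ∈ Subgroup.normalizer (D : Set G)) :
    (J P).map (MulAut.conj g).toMonoidHom = J P ∧
      J P ≤ (pCore 2 (Subgroup.normalizer (D : Set G))).map (Subgroup.normalizer (D : Set G)).subtype := by
  set M := Subgroup.normalizer (D : Set G) with hM
  set O := (pCore 2 M).map M.subtype with hOdef
  have hcore := hP.core_le
  have hmem : ∀ A ∈ maxEA P, A ≤ O := by
    intro A hA
    have h1 : A.subgroupOf M ≤ pCore 2 M := by
      refine (h.subgroup M).elem_le_pCore hrec (Subgroup.card_le_card_group M) (hno.noS3 hD hD1)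
        (pCore_normalizer_ne_bot hD hD1) (P := P.subgroupOf M) ⟨fun a ha b hb => Subtype.ext (hA.2.1.1 _ ha _ hb),
          fun a ha => Subtype.ext (hA.2.1.2 _ ha)⟩ (fun w hw => hA.1 hw) ?_ ?_
      · intro w hw
        exact hcore ⟨w, hw, rfl⟩
      · intro B hB hBE
        have hle : B.map M.subtype ≤ P := by
          rintro _ ⟨b, hb, rfl⟩; exact hB hb
        have := hA.2.2 _ hle ⟨by rintro _ ⟨a, ha, rfl⟩ _ ⟨b, hb, rfl⟩; exact (hBE.1 a ha b hb).map _,
          by rintro _ ⟨a, ha, rfl⟩; rw [← map_mul, hBE.2 a ha, map_one]⟩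
        rwa [Subgroup.card_map_of_injective M.subtype_injective,
          ← Nat.card_congr (Subgroup.subgroupOfEquivOfLe (hA.1.trans hP.le)).toEquiv] at this
    intro a ha
    exact ⟨⟨a, hP.le (hA.1 ha)⟩, h1 ha, rfl⟩
  refine ⟨?_, sSup_le hmem⟩
  refine Subgroup.eq_of_le_of_card_ge ?_ (le_of_eq (Subgroup.card_map_of_injective
    (MulAut.conj g).injective).symm)
  rw [J, sSup_eq_iSup, Subgroup.map_iSup]
  refine iSup_le fun A => ?_
  rw [Subgroup.map_iSup]
  refine iSup_le fun hA => ?_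
  obtain ⟨-, hE, hmax⟩ := maxEA_map (MulAut.conj g) hA
  refine le_iSup_of_le (A.map (MulAut.conj g).toMonoidHom) (le_iSup_of_le ⟨?_, hA.2.1.map _, fun B hB hBE => ?_⟩ le_rfl)
  · refine le_trans (fun x hx => ?_) hcore
    obtain ⟨a, ha, rfl⟩ := hx
    obtain ⟨w, hw, rfl⟩ := hmem A hA ha
    exact ⟨⟨g, hg⟩ * w * ⟨g, hg⟩⁻¹, (inferInstance : (pCore 2 M).Normal).conj_mem w hw _, rfl⟩
  · exact (hA.2.2 B hB hBE).trans (le_of_eq (Subgroup.card_map_of_injective (MulAut.conj g).injective).symm)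

theorem mem_normalizer_of_map_eq {H : Subgroup G} {g : G} (hg : H.map (MulAut.conj g).toMonoidHom = H) :
    g ∈ Subgroup.normalizer (H : Set G) :=
  Subgroup.mem_normalizer_fintype fun x hx => hg.le ⟨x, hx, rfl⟩

/-- Sylow 2-subgroups with non-trivial intersection have the same `J`. -/
theorem J_eq_of_inter (hrec : Rec.{u} (Nat.card G)) (h : Ord5 G) (hno : NoLocalS3 G) :
    ∀ (k : ℕ) (S T : Sylow 2 G), Nat.card G - Nat.card ((S : Subgroup G) ⊓ T : Subgroup G) = k →
      (S : Subgroup G) ⊓ T ≠ ⊥ → J (S : Subgroup G) = J (T : Subgroup G) := by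
  haveI : Fact (Nat.Prime 2) := ⟨Nat.prime_two⟩
  intro k
  induction k using Nat.strong_induction_on with
  | _ k ih =>
  intro S T hk hne
  by_cases hST : S = T
  · rw [hST]
  set D := (S : Subgroup G) ⊓ T with hDdef
  have hDp : IsPGroup 2 D := S.2.to_le inf_le_left
  have outer : ∀ S' T' : Sylow 2 G, ∀ X : Subgroup G, Nat.card D < Nat.card X → X ≤ S' → X ≤ T' →
      J (S' : Subgroup G) = J (T' : Subgroup G) := by
    intro S' T' X hlt hX hX'
    have h1 := Subgroup.card_le_of_le (le_inf hX hX')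
    have h2 : Nat.card D ≤ Nat.card G := Subgroup.card_le_card_group D
    have h3 : Nat.card ((S' : Subgroup G) ⊓ T' : Subgroup G) ≤ Nat.card G := Subgroup.card_le_card_group _
    refine ih _ (by omega) S' T' rfl fun e => ?_
    rw [e, Subgroup.card_bot] at h1
    have : 0 < Nat.card D := Nat.card_pos
    omega
  have inner : ∀ (j : ℕ) (E P₁ P₂ : Subgroup G) (T₁ T₂ : Sylow 2 G), Nat.card G - Nat.card P₁ = j →
      IsPGroup 2 E → E ≠ ⊥ → SylIn (Subgroup.normalizer (E : Set G)) P₁ →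
      SylIn (Subgroup.normalizer (E : Set G)) P₂ → Nat.card D < Nat.card P₁ → P₁ ≤ T₁ → P₂ ≤ T₂ →
      J (T₁ : Subgroup G) = J (T₂ : Subgroup G) := by
    intro j
    induction j using Nat.strong_induction_on with
    | _ j ihj =>
    intro E P₁ P₂ T₁ T₂ hj hEp hE1 hP₁ hP₂ hlt h₁ h₂
    obtain ⟨g, hg, hgP⟩ := hP₁.exists_conj hP₂
    have hcard : Nat.card P₂ = Nat.card P₁ := by
      rw [← hgP, Subgroup.card_map_of_injective (MulAut.conj g).injective]
    have hJ : J P₂ = J P₁ := by rw [← hgP, J_map, (J_invariant hrec h hno hEp hE1 hP₁ hg).1]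
    have hT : Nat.card (T₂ : Subgroup G) = Nat.card (T₁ : Subgroup G) := by
      rw [T₁.card_eq_multiplicity, T₂.card_eq_multiplicity]
    by_cases hfull : P₁ = T₁
    · have : P₂ = T₂ := Subgroup.eq_of_le_of_card_ge h₂ (by rw [hT, hcard, hfull])
      rw [← hfull, ← this, hJ]
    -- grow
    have hP1 : P₁ ≠ ⊥ := fun e => by
      rw [e, Subgroup.card_bot] at hlt
      have : 0 < Nat.card D := Nat.card_pos
      omega
    set F := J P₁ with hFdef
    have hF1 : F ≠ ⊥ := J_ne_bot hP₁.isPGroup hP1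
    have hFp : IsPGroup 2 F := hP₁.isPGroup.to_le (J_le P₁)
    haveI : Group.IsNilpotent (T₁ : Subgroup G) := T₁.2.isNilpotent
    have hlt1 : P₁.subgroupOf (T₁ : Subgroup G) < ⊤ := lt_top_iff_ne_top.2 fun e =>
      hfull (le_antisymm h₁ (Subgroup.subgroupOf_eq_top.1 e))
    obtain ⟨r, hr, hrP⟩ := SetLike.exists_of_lt (Group.normalizerCondition_of_isNilpotent _ hlt1)
    set R := P₁ ⊔ Subgroup.zpowers (r : G) with hRdef
    have hrN : (r : G) ∈ Subgroup.normalizer (P₁ : Set G) := Subgroup.mem_normalizer_fintype fun x hx =>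
      (Subgroup.mem_normalizer_iff.1 hr ⟨x, h₁ hx⟩).1 hx
    have hRT : R ≤ (T₁ : Subgroup G) := sup_le h₁ (Subgroup.zpowers_le.2 r.2)
    have hRF : R ≤ Subgroup.normalizer (F : Set G) := by
      refine sup_le ?_ (Subgroup.zpowers_le.2 (mem_normalizer_of_map_eq ?_))
      · intro x hx
        exact mem_normalizer_of_map_eq (J_invariant hrec h hno hEp hE1 hP₁ (hP₁.le hx)).1
      · rw [hFdef, ← J_map]
        congr 1
        exact Subgroup.eq_of_le_of_card_ge (by
          rintro _ ⟨x, hx, rfl⟩; exact (Subgroup.mem_normalizer_iff.1 hrN x).1 hx)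
          (le_of_eq (Subgroup.card_map_of_injective (MulAut.conj (r : G)).injective).symm)
    have hPR : Nat.card P₁ < Nat.card R := lt_of_le_of_ne (Subgroup.card_le_of_le le_sup_left) fun e =>
      hrP ((Subgroup.eq_of_le_of_card_ge le_sup_left e.ge).ge
        (le_sup_right (a := P₁) (Subgroup.mem_zpowers (r : G))))
    obtain ⟨Q₁, hQ₁, hQ₁s⟩ := exists_sylIn _ hRF (T₁.2.to_le hRT)
    have hP2F : P₂ ≤ Subgroup.normalizer (F : Set G) := fun x hx =>
      mem_normalizer_of_map_eq (J_invariant hrec h hno hEp hE1 hP₁ (hP₂.le hx)).1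
    obtain ⟨Q₂, hQ₂, hQ₂s⟩ := exists_sylIn _ hP2F hP₂.isPGroup
    obtain ⟨U₁, hU₁⟩ := hQ₁s.isPGroup.exists_le_sylow
    obtain ⟨U₂, hU₂⟩ := hQ₂s.isPGroup.exists_le_sylow
    have hQ : Nat.card P₁ < Nat.card Q₁ := hPR.trans_le (Subgroup.card_le_of_le hQ₁)
    have hQG : Nat.card Q₁ ≤ Nat.card G := Subgroup.card_le_card_group _
    have e1 := outer T₁ U₁ R (hlt.trans hPR) hRT (hQ₁.trans hU₁)
    have e2 := outer T₂ U₂ P₂ (hcard ▸ hlt) h₂ (hQ₂.trans hU₂)
    rw [e1, e2]
    exact ihj _ (by omega) F Q₁ Q₂ U₁ U₂ rfl hFp hF1 hQ₁s hQ₂s (hlt.trans hQ) hU₁ hU₂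
  -- grow `D` in both Sylow subgroups
  have grow : ∀ U : Sylow 2 G, D ≤ U → D ≠ (U : Subgroup G) →
      ∃ (N P : Subgroup G) (U' : Sylow 2 G), SylIn (Subgroup.normalizer (D : Set G)) P ∧
        Nat.card D < Nat.card N ∧ N ≤ U ∧ N ≤ P ∧ P ≤ U' := by
    intro U hDU hne'
    haveI : Group.IsNilpotent (U : Subgroup G) := U.2.isNilpotent
    have hlt1 : D.subgroupOf (U : Subgroup G) < ⊤ := lt_top_iff_ne_top.2 fun e =>
      hne' (le_antisymm hDU (Subgroup.subgroupOf_eq_top.1 e))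
    obtain ⟨r, hr, hrD⟩ := SetLike.exists_of_lt (Group.normalizerCondition_of_isNilpotent _ hlt1)
    set N := D ⊔ Subgroup.zpowers (r : G) with hNdef
    have hrN : (r : G) ∈ Subgroup.normalizer (D : Set G) := Subgroup.mem_normalizer_fintype fun x hx =>
      (Subgroup.mem_normalizer_iff.1 hr ⟨x, hDU hx⟩).1 hx
    have hNU : N ≤ (U : Subgroup G) := sup_le hDU (Subgroup.zpowers_le.2 r.2)
    obtain ⟨P, hNP, hP⟩ := exists_sylIn (Subgroup.normalizer (D : Set G))
      (sup_le Subgroup.le_normalizer (Subgroup.zpowers_le.2 hrN)) (U.2.to_le hNU)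
    obtain ⟨U', hU'⟩ := hP.isPGroup.exists_le_sylow
    refine ⟨N, P, U', hP, lt_of_le_of_ne (Subgroup.card_le_of_le le_sup_left) fun e => hrD
      ((Subgroup.eq_of_le_of_card_ge le_sup_left e.ge).ge
        (le_sup_right (a := D) (Subgroup.mem_zpowers (r : G)))), hNU, hNP, hU'⟩
  obtain ⟨N₁, P₁, U₁, hP₁, hN₁, hN₁S, hNP₁, hPU₁⟩ := grow S inf_le_left fun e => hST
    (Sylow.ext (S.3 T.2 (e ▸ inf_le_right)).symm)
  obtain ⟨N₂, P₂, U₂, hP₂, hN₂, hN₂T, hNP₂, hPU₂⟩ := grow T inf_le_right fun e => hST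
    (Sylow.ext (T.3 S.2 (e ▸ inf_le_left)))
  rw [outer S U₁ N₁ hN₁ hN₁S (hNP₁.trans hPU₁), outer T U₂ N₂ hN₂ hN₂T (hNP₂.trans hPU₂)]
  exact inner _ D P₁ P₂ U₁ U₂ rfl hDp hne hP₁ hP₂ (hN₁.trans_le (Subgroup.card_le_of_le hNP₁)) hPU₁ hPU₂

theorem exists_three_element (hG : RF G) : ∃ x : G, x ^ 3 = 1 ∧ x ≠ 1 := by
  by_contra hne
  push Not at hne
  refine hG.nonsolvable (CfsgLib.Chars.Apps.isSolvable_of_primeFactors_subset G Nat.prime_two
    (show Nat.Prime 5 by norm_num) fun r hr hd => ?_)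
  haveI := Fact.mk hr
  obtain ⟨g, hg⟩ := exists_prime_orderOf_dvd_card' r hd
  obtain ⟨l, hl, hl'⟩ := hG.ord.exists_exp g
  have hd' := orderOf_dvd_of_pow_eq_one hl'
  rw [hg] at hd'
  rcases hl with rfl | rfl | rfl
  · exfalso
    have := (Nat.prime_dvd_prime_iff_eq hr Nat.prime_three).1 hd'
    subst this
    have := hne g hl'
    rw [this, orderOf_one] at hg
    omega
  · exact Or.inl ((Nat.prime_dvd_prime_iff_eq hr Nat.prime_two).1 (hr.dvd_of_dvd_pow (show r ∣ 2 ^ 2 from hd')))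
  · exact Or.inr ((Nat.prime_dvd_prime_iff_eq hr Nat.prime_five).1 hd')

/-- With trivially intersecting Sylow 2-subgroups the group is `A₅`. -/
theorem concl_of_TI [IsSimpleGroup G] (hG : RF G) (S : Sylow 2 G)
    (hTI : ∀ g : G, g ∉ Subgroup.normalizer ((S : Subgroup G) : Set G) →
      (S : Subgroup G) ⊓ (MulAut.conj g • (S : Subgroup G)) = ⊥) (hS : (S : Subgroup G) ≠ ⊥) :
    Concl G := by
  haveI : Fact (Nat.Prime 2) := ⟨Nat.prime_two⟩
  have h := hG.ord
  set N := Subgroup.normalizer ((S : Subgroup G) : Set G) with hN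
  have sys : CfsgLib.FrobSystem.Sys N (S : Subgroup G) := by
    refine ⟨Subgroup.le_normalizer, le_rfl, fun a ha haS x hx hc => ?_, hTI, hS, fun e => ?_, ?_, hG.radical⟩
    · by_contra hx1
      have h4 := h.pow_eq_one_of_commute (m := 4) (by omega)
        (h.pow_of_isPGroup (Or.inl ⟨rfl, rfl⟩) S.2 hx) hx1 hc
      have hp : IsPGroup 2 (Subgroup.zpowers a) := IsPGroup.of_card (n := (orderOf a).factorization 2) (by
        rw [Nat.card_zpowers]
        obtain ⟨i, -, hi⟩ := (Nat.dvd_prime_pow Nat.prime_two).1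
          (show orderOf a ∣ 2 ^ 2 from orderOf_dvd_of_pow_eq_one h4)
        rw [hi, Nat.prime_two.factorization_pow, Finsupp.single_eq_same])
      have hsup : IsPGroup 2 ((S : Subgroup G) ⊔ Subgroup.zpowers a : Subgroup G) :=
        S.2.to_sup_of_normal_left' hp (Subgroup.zpowers_le.2 ha)
      exact haS ((S.3 hsup le_sup_left).le (le_sup_right (a := (S : Subgroup G)) (Subgroup.mem_zpowers a)))
    · have hn := Subgroup.normalizer_eq_top_iff.1 e
      haveI := S.2.isNilpotent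
      exact hS (hG.radical _ hn inferInstance)
    · intro H hodd
      refine CfsgLib.Chars.Apps.isSolvable_of_primeFactors_subset H Nat.prime_three
        (show Nat.Prime 5 by norm_num) fun r hr hd => ?_
      haveI := Fact.mk hr
      obtain ⟨g, hg⟩ := exists_prime_orderOf_dvd_card' r hd
      obtain ⟨l, hl, hl'⟩ := (h.subgroup H).exists_exp g
      have hd' := orderOf_dvd_of_pow_eq_one hl'
      rw [hg] at hd'
      rcases hl with rfl | rfl | rfl
      · exact Or.inl ((Nat.prime_dvd_prime_iff_eq hr Nat.prime_three).1 hd')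
      · exfalso
        have hr2 := (Nat.prime_dvd_prime_iff_eq hr Nat.prime_two).1 (hr.dvd_of_dvd_pow (show r ∣ 2 ^ 2 from hd'))
        subst hr2
        exact Nat.not_even_iff_odd.2 hodd (even_iff_two_dvd.2 hd)
      · exact Or.inr ((Nat.prime_dvd_prime_iff_eq hr Nat.prime_five).1 hd')
  rcases sys.classify (T := S) Subgroup.le_normalizer with ⟨K, iK, iT, ⟨n, hn, hK⟩, ⟨e⟩⟩ | ⟨F, iF, iT, k, hk, hF, ⟨e⟩⟩
  · obtain ⟨v, hv⟩ := IsCyclic.exists_generator (α := Kˣ)
    have hord : orderOf v = 2 ^ n - 1 := by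
      rw [orderOf_eq_card_of_forall_mem_zpowers hv, Nat.card_units, Nat.card_eq_fintype_card, hK]
    let D : Matrix.SpecialLinearGroup (Fin 2) K :=
      ⟨!![(v : K), 0; 0, ((v⁻¹ : Kˣ) : K)], by simp [Matrix.det_fin_two]⟩
    have hD : ∀ i : ℕ, ((D ^ i : Matrix.SpecialLinearGroup (Fin 2) K) : Matrix (Fin 2) (Fin 2) K) 0 0 =
        ((v ^ i : Kˣ) : K) ∧
        ((D ^ i : Matrix.SpecialLinearGroup (Fin 2) K) : Matrix (Fin 2) (Fin 2) K) 0 1 = 0 := by
      intro i
      induction i with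
      | zero => simp
      | succ i ih =>
        rw [pow_succ D i, pow_succ v i, Matrix.SpecialLinearGroup.coe_mul, Matrix.mul_apply, Matrix.mul_apply,
          Fin.sum_univ_two, Fin.sum_univ_two, ih.1, ih.2]
        simp [D]
    have hn2 : n = 2 := by
      obtain ⟨l, hl, hl'⟩ := h.exists_exp (e.symm D)
      have h1 : D ^ l = 1 := by
        have := congrArg e hl'
        rwa [map_pow, e.apply_symm_apply, map_one] at this
      have h2 : v ^ l = 1 := Units.ext (by
        rw [← (hD l).1, h1]; simp)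
      have h3 : 2 ^ n - 1 ≤ 5 := by
        rw [← hord]
        exact (Nat.le_of_dvd (by omega) (orderOf_dvd_of_pow_eq_one h2)).trans (by omega)
      by_contra hne
      have : 2 ^ 3 ≤ 2 ^ n := Nat.pow_le_pow_right (by norm_num) (by omega)
      omega
    subst hn2
    have hc := CfsgLib.CommutingSLTwo.card_SL2 (F := K)
    rw [hK] at hc
    have h60 : Nat.card G = 60 := by
      rw [Nat.card_congr e.toEquiv]
      change _ = 60
      norm_num at hc
      have : Nat.card (Matrix.SpecialLinearGroup (Fin 2) K) * 3 = 180 := hc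
      omega
    exact Or.inl (Cfsg.Agent.S0494.result h60)
  · exfalso
    obtain ⟨x, hx, hx1⟩ := exists_three_element hG
    have h3 : 3 ∣ Nat.card G := by
      have := orderOf_dvd_natCard x
      rwa [orderOf_eq_prime hx hx1] at this
    rw [Nat.card_congr e.toEquiv, (Cfsg.Agent.S1163.result hk hF).1] at h3
    have hq : (2 ^ (2 * k + 1)) % 3 = 2 := by
      rw [pow_succ, pow_mul, Nat.mul_mod, Nat.pow_mod]; norm_num
    have h1 : 2 ≤ 2 ^ (2 * k + 1) := le_self_pow₀ (by norm_num) (by omega)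
    generalize 2 ^ (2 * k + 1) = q at *
    rcases (Nat.prime_three.dvd_mul).1 h3 with h4 | h4
    · rcases (Nat.prime_three.dvd_mul).1 h4 with h5 | h5
      · have := Nat.prime_three.dvd_of_dvd_pow h5
        omega
      · omega
    · rw [Nat.dvd_iff_mod_eq_zero, Nat.add_mod, Nat.pow_mod, hq] at h4
      norm_num at h4

/-- The simple case without inverted elements of order three in 2-locals. -/
theorem concl_of_noLocalS3 [IsSimpleGroup G] (hrec : Rec.{u} (Nat.card G)) (hG : RF G)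
    (hno : NoLocalS3 G) : Concl G := by
  haveI : Fact (Nat.Prime 2) := ⟨Nat.prime_two⟩
  have h := hG.ord
  obtain ⟨S⟩ : Nonempty (Sylow 2 G) := inferInstance
  have hS : (S : Subgroup G) ≠ ⊥ := by
    intro e
    refine hG.nonsolvable (CfsgLib.Chars.Apps.isSolvable_of_primeFactors_subset G Nat.prime_three
      Nat.prime_five fun r hr hd => ?_)
    haveI := Fact.mk hr
    obtain ⟨g, hg⟩ := exists_prime_orderOf_dvd_card' r hd
    obtain ⟨l, hl, hl'⟩ := h.exists_exp g
    have hd' := orderOf_dvd_of_pow_eq_one hl'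
    rw [hg] at hd'
    rcases hl with rfl | rfl | rfl
    · exact Or.inl ((Nat.prime_dvd_prime_iff_eq hr Nat.prime_three).1 hd')
    · exfalso
      have hr2 := (Nat.prime_dvd_prime_iff_eq hr Nat.prime_two).1 (hr.dvd_of_dvd_pow (show r ∣ 2 ^ 2 from hd'))
      subst hr2
      exact S.ne_bot_of_dvd_card hd e
    · exact Or.inr ((Nat.prime_dvd_prime_iff_eq hr Nat.prime_five).1 hd')
  set F := J (S : Subgroup G) with hFdef
  set H := Subgroup.normalizer (F : Set G) with hHdef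
  have hF1 : F ≠ ⊥ := J_ne_bot S.2 hS
  have hFp : IsPGroup 2 F := S.2.to_le (J_le _)
  have same : ∀ T : Sylow 2 G, ∀ w : G, w ∈ (S : Subgroup G) → w ∈ (T : Subgroup G) → w ≠ 1 →
      J (T : Subgroup G) = F := fun T w hw hw' hw1 =>
    (J_eq_of_inter hrec h hno _ S T rfl fun e => hw1 (Subgroup.mem_bot.1 (e ▸ ⟨hw, hw'⟩))).symm
  have rel : ∀ g : G, ∀ w ∈ (S : Subgroup G), w ≠ 1 → g * w * g⁻¹ ∈ (S : Subgroup G) → g ∈ H := by
    intro g w hw hw1 hgw
    have hmap : ((g • S : Sylow 2 G) : Subgroup G) =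
        (S : Subgroup G).map (MulAut.conj g).toMonoidHom := rfl
    have h1 := same (g • S) (g * w * g⁻¹) hgw (by rw [hmap]; exact ⟨w, hw, rfl⟩)
      (fun e => hw1 (conj_eq_one_iff.1 e))
    rw [hmap, J_map] at h1
    exact mem_normalizer_of_map_eq h1
  have hSH : (S : Subgroup G) ≤ H := fun s hs => by
    obtain ⟨w, hw, hw1⟩ := (S : Subgroup G).bot_or_exists_ne_one.resolve_left hS
    exact rel s w hw hw1 ((S : Subgroup G).mul_mem ((S : Subgroup G).mul_mem hs hw) ((S : Subgroup G).inv_mem hs))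
  by_cases hnorm : H ≤ Subgroup.normalizer ((S : Subgroup G) : Set G)
  · refine concl_of_TI hG S (fun g hg => ?_) hS
    rw [Subgroup.eq_bot_iff_forall]
    rintro x ⟨hx, y, hy, rfl⟩
    by_contra hx1
    exact hg (hnorm (rel g y hy (fun e => hx1 (by simp [e])) hx))
  exfalso
  set O := (pCore 2 H).map H.subtype with hOdef
  have hcoreS : O ≤ (S : Subgroup G) :=
    SylIn.core_le ⟨hSH, S.2, fun Q _ hQ => by
      obtain ⟨T, hT⟩ := hQ.exists_le_sylow
      exact (Subgroup.card_le_of_le hT).trans (le_of_eq (by rw [S.card_eq_multiplicity, T.card_eq_multiplicity]))⟩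
  -- an element of `S` outside `O` with square inside
  obtain ⟨b, hbS, hbO, hb2⟩ : ∃ b : H, (b : G) ∈ (S : Subgroup G) ∧ b ∉ pCore 2 H ∧ b * b ∈ pCore 2 H := by
    obtain ⟨s, hs, hsO⟩ : ∃ s ∈ (S : Subgroup G), s ∉ O := by
      by_contra hc
      push Not at hc
      refine hnorm fun g hg => ?_
      have e : (S : Subgroup G) = O := le_antisymm hc hcoreS
      rw [e]
      refine Subgroup.mem_normalizer_fintype fun x hx => ?_
      obtain ⟨w, hw, rfl⟩ := hx
      exact ⟨⟨g, hg⟩ * w * ⟨g, hg⟩⁻¹, (inferInstance : (pCore 2 H).Normal).conj_mem w hw _, rfl⟩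
    let σ : H := ⟨s, hSH hs⟩
    have hσ : σ ∉ pCore 2 H := fun e => hsO ⟨σ, e, rfl⟩
    by_cases hs2 : σ * σ ∈ pCore 2 H
    · exact ⟨σ, hs, hσ, hs2⟩
    · refine ⟨σ * σ, (S : Subgroup G).mul_mem hs hs, hs2, ?_⟩
      rw [show σ * σ * (σ * σ) = σ ^ 4 by simp only [pow_succ, pow_zero, one_mul, mul_assoc],
        (show σ ^ 4 = 1 from Subtype.ext (h.pow_of_isPGroup (Or.inl ⟨rfl, rfl⟩) S.2 hs))]
      exact (pCore 2 H).one_mem
  obtain ⟨m, y, t, hm, hy, hy1, -, ht, htb⟩ := (h.subgroup H).exists_inverted hbO hb2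
  obtain ⟨ht2, ht1⟩ := (h.subgroup H).inverting hm hy hy1 ht
  set s : G := (t : G) with hsdef
  have hs2 : orderOf s = 2 := CfsgLib.StronglyEmbedded.orderOf_two_iff.2
    ⟨congrArg Subtype.val ht2, fun e => ht1 (Subtype.ext e)⟩
  have htO : t ∉ pCore 2 H := fun e => hbO (by
    have := (pCore 2 H).mul_mem ((pCore 2 H).inv_mem htb) e
    rw [mul_inv_rev, inv_inv, inv_mul_cancel_right] at this
    exact this)
  have hsS : s ∈ (S : Subgroup G) := by
    have : ((t * b⁻¹ : H) : G) ∈ O := ⟨_, htb, rfl⟩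
    have := (S : Subgroup G).mul_mem (hcoreS this) hbS
    rwa [Subgroup.coe_mul, Subgroup.coe_inv, inv_mul_cancel_right] at this
  -- a central involution of `S` in `O`
  obtain ⟨z, hzS, hz2, hzc⟩ : ∃ z ∈ (S : Subgroup G), orderOf z = 2 ∧ ∀ a ∈ (S : Subgroup G), Commute a z := by
    obtain ⟨z, hz, hz1⟩ := (invCentre (S : Subgroup G)).bot_or_exists_ne_one.resolve_left
      (invCentre_ne_bot S.2 hS)
    exact ⟨z, hz.1, CfsgLib.StronglyEmbedded.orderOf_two_iff.2 ⟨hz.2.2, hz1⟩, hz.2.1⟩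
  have hzO : z ∈ O := by
    have hO1 : pCore 2 H ≠ ⊥ := pCore_normalizer_ne_bot hFp hF1
    have hmem : (⟨z, hSH hzS⟩ : H) ∈ Subgroup.centralizer (pCore 2 H : Set H) :=
      Subgroup.mem_centralizer_iff.2 fun w hw => Subtype.ext (hzc w (hcoreS ⟨w, hw, rfl⟩)).eq
    haveI : (Subgroup.centralizer (pCore 2 H : Set H)).Normal := inferInstance
    exact ⟨_, CfsgLib.Constrained.le_pCore inferInstance
      ((h.subgroup H).isPGroup_centralizer_subgroup (Or.inl ⟨rfl, rfl⟩)
        CfsgLib.Constrained.isPGroup_pCore hO1) hmem, rfl⟩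
  have hnc : ¬ IsConj z s := by
    intro hc
    obtain ⟨g, hg⟩ := isConj_iff.1 hc
    have hgH := rel g z hzS (ne_of_apply_ne orderOf (by rw [hz2, orderOf_one]; norm_num)) (hg ▸ hsS)
    refine htO ?_
    obtain ⟨w, hw, hwz⟩ := hzO
    have : t = (⟨g, hgH⟩ : H) * w * (⟨g, hgH⟩ : H)⁻¹ := Subtype.ext (by
      show s = g * (w : G) * g⁻¹
      rw [← hg, ← hwz]; rfl)
    rw [this]
    exact (inferInstance : (pCore 2 H).Normal).conj_mem w hw _
  -- all conjugates of `s` lie in `H`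
  have hall : ∀ g : G, g * s * g⁻¹ ∈ H := by
    intro g
    have hv : orderOf (g * s * g⁻¹) = 2 := by rw [CfsgLib.StronglyEmbedded.orderOf_conj]; exact hs2
    obtain ⟨c, hc, hcz, hcv⟩ := CfsgLib.BaerSuzuki.exists_common_central_involution hz2 hv
      (fun hh => hnc (hh.trans (isConj_iff.2 ⟨g⁻¹, by group⟩)))
    obtain ⟨hc2, hc1⟩ := CfsgLib.StronglyEmbedded.orderOf_two_iff.1 hc
    obtain ⟨T, hT⟩ := (h.isPGroup_centralizer (p := 2) (m := 4) (Or.inl ⟨rfl, rfl⟩)
      (show c ^ 4 = 1 by rw [show (4 : ℕ) = 2 * 2 from rfl, pow_mul, pow_two c, hc2, one_pow]) hc1).exists_le_sylow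
    have hzT : z ∈ (T : Subgroup G) := hT (Subgroup.mem_centralizer_singleton_iff.2 hcz.symm.eq)
    have hJ := same T z hzS hzT (ne_of_apply_ne orderOf (by rw [hz2, orderOf_one]; norm_num))
    have hvT : g * s * g⁻¹ ∈ (T : Subgroup G) := hT (Subgroup.mem_centralizer_singleton_iff.2 hcv.symm.eq)
    refine mem_normalizer_of_map_eq ?_
    rw [← hJ, ← J_map]
    congr 1
    exact Subgroup.eq_of_le_of_card_ge (by
      rintro _ ⟨x, hx, rfl⟩
      exact (T : Subgroup G).mul_mem ((T : Subgroup G).mul_mem hvT hx) ((T : Subgroup G).inv_mem hvT))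
      (le_of_eq (Subgroup.card_map_of_injective (MulAut.conj _).injective).symm)
  have hHtop : H ≠ ⊤ := fun e => by
    have hn := Subgroup.normalizer_eq_top_iff.1 (hHdef.symm.trans e)
    haveI := hFp.isNilpotent
    exact hF1 (hG.radical F hn inferInstance)
  have hnc' : Subgroup.normalClosure ({s} : Set G) ≤ H :=
    (Subgroup.closure_le H).2 fun x hx => by
      obtain ⟨a, ha, hax⟩ := Group.mem_conjugatesOfSet_iff.1 hx
      rw [Set.mem_singleton_iff] at ha
      subst ha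
      obtain ⟨g, hg⟩ := isConj_iff.1 hax
      exact hg ▸ hall g
  rcases IsSimpleGroup.eq_bot_or_eq_top_of_normal (Subgroup.normalClosure ({s} : Set G))
    Subgroup.normalClosure_normal with e | e
  · exact (CfsgLib.StronglyEmbedded.ne_one_of_orderOf_two hs2)
      (Subgroup.mem_bot.1 (e ▸ Subgroup.subset_normalClosure (Set.mem_singleton s)))
  · exact hHtop (top_le_iff.1 (e ▸ hnc'))

end CfsgLib.SpecFive
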