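import Cfsg.Agent.SpecFive.Alt
import Cfsg.Agent.FrobSystem.Main
import Cfsg.Agent.Chars.Apps.Burnside

/-!
# The quotient by `O₂` in a group with element orders at most five
-/

set_option autoImplicit false
set_option linter.unusedSectionVars false
set_option linter.style.haveILetI false

namespace CfsgLib.SpecFive

open Cfsg

universe u

/-- Radical free non-solvable, orders at most five. -/
structure RF (G : Type u) [Group G] : Prop where
  ord : Ord5 G
  nonsolvable : ¬ Group.IsSolvable G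
  radical : ∀ N : Subgroup G, N.Normal → Group.IsSolvable N → N = ⊥

/-- The two possibilities. -/
def Concl (G : Type u) [Group G] : Prop := Nonempty (G ≃* A5) ∨ Nonempty (G ≃* A6)

/-- The classification below a given order. -/
def Rec (n : ℕ) : Prop :=
  ∀ (H : Type u) [Group H] [Finite H], Nat.card H < n → RF H → Concl H

theorem Concl.not_solvable {G : Type u} [Group G] (h : Concl G) : ¬ Group.IsSolvable G := by
  intro hs
  rcases h with ⟨⟨e⟩⟩ | ⟨⟨e⟩⟩
  all_goals
    haveI := hs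
    have hsol := Group.isSolvable_of_surjective (f := e.toMonoidHom) e.surjective
    haveI := hsol
  · haveI : IsSimpleGroup A5 := alternatingGroup.isSimpleGroup (by simp)
    have := IsSimpleGroup.comm_iff_isSolvable.mpr hsol a5a a5x
    revert this; decide +kernel
  · haveI : IsSimpleGroup A6 := alternatingGroup.isSimpleGroup (by simp)
    have := IsSimpleGroup.comm_iff_isSolvable.mpr hsol a6t a6x
    revert this; decide +kernel

/-- A self-centralising normal subgroup of order three or five. -/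
structure CycNormal (Q : Type u) [Group Q] (m : ℕ) (y : Q) : Prop where
  hm : m = 3 ∨ m = 5
  pow : y ^ m = 1
  ne_one : y ≠ 1
  normal : ∀ g : Q, g * y * g⁻¹ ∈ Subgroup.zpowers y
  selfcent : ∀ g : Q, Commute y g → g ∈ Subgroup.zpowers y

namespace CycNormal

variable {Q : Type u} [Group Q] [Finite Q] {m : ℕ} {y : Q} (hy : CycNormal Q m y)
include hy

theorem prime : m.Prime := by rcases hy.hm with rfl | rfl <;> norm_num

theorem orderOf_eq : orderOf y = m :=
  haveI := Fact.mk hy.prime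
  orderOf_eq_prime hy.pow hy.ne_one

theorem pow_of_mem {g : Q} (hg : g ∈ Subgroup.zpowers y) : g ^ m = 1 := by
  obtain ⟨i, rfl⟩ := Subgroup.mem_zpowers_iff.1 hg
  rw [← zpow_natCast, ← zpow_mul, mul_comm, zpow_mul, zpow_natCast, hy.pow, one_zpow]

theorem commute_of_mem {g : Q} (hg : g ∈ Subgroup.zpowers y) : Commute y g := by
  obtain ⟨i, rfl⟩ := Subgroup.mem_zpowers_iff.1 hg
  exact (Commute.refl y).zpow_right i

theorem mem_of_commute_mem {g w : Q} (hw : w ∈ Subgroup.zpowers y) (hw1 : w ≠ 1) (hc : Commute w g) :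
    g ∈ Subgroup.zpowers y := by
  refine hy.selfcent g ?_
  haveI := Fact.mk hy.prime
  have hle : Subgroup.zpowers w = Subgroup.zpowers y :=
    Subgroup.eq_of_le_of_card_ge (Subgroup.zpowers_le.2 hw) (by
      rw [Nat.card_zpowers, Nat.card_zpowers, hy.orderOf_eq, orderOf_eq_prime (hy.pow_of_mem hw) hw1])
  have : y ∈ Subgroup.zpowers w := hle ▸ Subgroup.mem_zpowers y
  obtain ⟨i, hi⟩ := Subgroup.mem_zpowers_iff.1 this
  rw [← hi]
  exact hc.zpow_left i

theorem conj_mem {g w : Q} (hw : w ∈ Subgroup.zpowers y) : g * w * g⁻¹ ∈ Subgroup.zpowers y := by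
  obtain ⟨i, rfl⟩ := Subgroup.mem_zpowers_iff.1 hw
  rw [← conj_zpow]
  exact Subgroup.zpow_mem _ (hy.normal g) i

theorem exp_four (h : Ord5 Q) (g : Q) : g ^ 4 = 1 ∨ g ∈ Subgroup.zpowers y := by
  obtain ⟨l, hl, hg⟩ := h.exists_exp g
  by_cases h4 : l = 4
  · exact Or.inl (h4 ▸ hg)
  right
  have hlp : l.Prime := by
    rcases hl with rfl | rfl | rfl
    exacts [Nat.prime_three, absurd rfl h4, Nat.prime_five]
  let X : Set Q := (Subgroup.zpowers y : Set Q) \ {1}
  have hXcard : Nat.card X = m - 1 := by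
    rw [Nat.card_coe_set_eq, Set.ncard_diff_singleton_of_mem (Subgroup.one_mem _), ← Nat.card_coe_set_eq]
    show Nat.card (Subgroup.zpowers y) - 1 = m - 1
    rw [Nat.card_zpowers, hy.orderOf_eq]
  obtain ⟨w, ⟨hw, hw1⟩, hc⟩ := exists_fixed hlp hg X
    (fun a ha => ⟨hy.conj_mem ha.1, fun e => ha.2 (conj_eq_one_iff.1 e)⟩) (by
      rw [hXcard]
      have hm := hy.hm
      intro hd
      rcases hl with rfl | rfl | rfl <;> rcases hm with rfl | rfl <;> norm_num at hd <;> omega)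
  exact hy.mem_of_commute_mem hw hw1 hc.symm

theorem not_three (h : Ord5 Q) (hm5 : m = 5) {g : Q} (hg : g ^ 3 = 1) : g = 1 := by
  rcases hy.exp_four h g with h4 | h4
  · exact eq_one_of_pow_coprime (by norm_num) hg h4
  · exact eq_one_of_pow_coprime (by norm_num) hg (hm5 ▸ hy.pow_of_mem h4)

theorem solvable (h : Ord5 Q) : Group.IsSolvable Q := by
  refine CfsgLib.Chars.Apps.isSolvable_of_primeFactors_subset Q Nat.prime_two hy.prime fun r hr hd => ?_
  haveI := Fact.mk hr
  obtain ⟨g, hg⟩ := exists_prime_orderOf_dvd_card' r hd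
  rcases hy.exp_four h g with h4 | h4
  · left
    have := orderOf_dvd_of_pow_eq_one h4
    rw [hg] at this
    exact (Nat.prime_dvd_prime_iff_eq hr Nat.prime_two).1 (hr.dvd_of_dvd_pow (show r ∣ 2 ^ 2 from this))
  · right
    have := orderOf_dvd_of_pow_eq_one (hy.pow_of_mem h4)
    rw [hg] at this
    exact (Nat.prime_dvd_prime_iff_eq hr hy.prime).1 this

theorem inverts (h : Ord5 Q) {a : Q} (ha : a * a = 1) (ha1 : a ≠ 1) : a * y * a⁻¹ = y⁻¹ := by
  by_contra hne
  set w := y * (a * y * a⁻¹) with hw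
  have hmem : a * y * a⁻¹ ∈ Subgroup.zpowers y := hy.normal a
  have hw1 : w ≠ 1 := fun e => hne (eq_inv_of_mul_eq_one_right e)
  have hc : Commute w a := by
    have hyc : Commute y (a * y * a⁻¹) := hy.commute_of_mem hmem
    refine (mul_inv_eq_iff_eq_mul.1 ?_).symm
    calc a * w * a⁻¹ = a * y * a⁻¹ * (a * a * y * (a * a)⁻¹) := by rw [hw]; group
      _ = w := by rw [ha, hw, hyc.eq]; group
  have haz := hy.mem_of_commute_mem (Subgroup.mul_mem _ (Subgroup.mem_zpowers y) hmem) hw1 hc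
  refine ha1 (eq_one_of_pow_coprime ?_ (show a ^ 2 = 1 by rw [pow_two]; exact ha) (hy.pow_of_mem haz))
  rcases hy.hm with rfl | rfl <;> norm_num

theorem involutions_eq (h : Ord5 Q) {a b : Q} (ha : a * a = 1) (ha1 : a ≠ 1) (hb : b * b = 1)
    (hb1 : b ≠ 1) (hab : Commute a b) : a = b := by
  have hc : Commute (a * b) y := mul_inv_eq_iff_eq_mul.1 (by
    calc a * b * y * (a * b)⁻¹ = a * (b * y * b⁻¹) * a⁻¹ := by group
      _ = y := by rw [hy.inverts h hb hb1, ← conj_inv, hy.inverts h ha ha1, inv_inv])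
  have hmem := hy.selfcent _ hc.symm
  have h2 : (a * b) ^ 2 = 1 := by rw [hab.mul_pow, pow_two, pow_two, ha, hb, one_mul]
  have := eq_one_of_pow_coprime (by rcases hy.hm with rfl | rfl <;> norm_num) h2 (hy.pow_of_mem hmem)
  rw [eq_inv_of_mul_eq_one_left this]
  exact inv_eq_of_mul_eq_one_right hb

theorem card_six (hm3 : m = 3) {t : Q} (ht : t * y * t⁻¹ = y⁻¹) :
    Nat.card Q = 6 := by
  subst hm3
  have hne : y⁻¹ ≠ y := fun e => hy.ne_one (eq_one_of_pow_coprime (by norm_num)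
    (show y ^ 2 = 1 by rw [pow_two]; nth_rewrite 1 [← e]; exact inv_mul_cancel y) hy.pow)
  have hcases : ∀ g : Q, g * y * g⁻¹ = y ∨ g * y * g⁻¹ = y⁻¹ := by
    intro g
    obtain ⟨i, hi⟩ := Subgroup.mem_zpowers_iff.1 (hy.normal g)
    have : y ^ i = y ^ (i % 3) := by
      conv_lhs => rw [← Int.emod_add_mul_ediv i 3]
      rw [zpow_add, zpow_mul, show y ^ (3 : ℤ) = 1 from by rw [show (3 : ℤ) = ((3 : ℕ) : ℤ) from rfl,
        zpow_natCast, hy.pow], one_zpow, mul_one]
    rcases (show i % 3 = 0 ∨ i % 3 = 1 ∨ i % 3 = 2 by omega) with e | e | e <;> rw [e] at this <;>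
      rw [this] at hi
    · rw [zpow_zero] at hi; exact absurd (conj_eq_one_iff.1 hi.symm) hy.ne_one
    · exact Or.inl (by rw [← hi, zpow_one])
    · refine Or.inr ?_
      rw [← hi, show (2 : ℤ) = ((2 : ℕ) : ℤ) from rfl, zpow_natCast]
      exact eq_inv_of_mul_eq_one_left (by rw [← pow_succ]; exact hy.pow)
  have hidx : (Subgroup.zpowers y).index = 2 := by
    rw [Subgroup.index_eq_two_iff]
    refine ⟨t, fun g => ?_⟩
    have hg : g ∈ Subgroup.zpowers y ↔ g * y * g⁻¹ = y :=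
      ⟨fun hg => by rw [← (hy.commute_of_mem hg).eq, mul_inv_cancel_right],
        fun hg => hy.selfcent g (mul_inv_eq_iff_eq_mul.1 hg).symm⟩
    have hgt : g * t ∈ Subgroup.zpowers y ↔ g * y * g⁻¹ = y⁻¹ := by
      have e : g * t * y * (g * t)⁻¹ = (g * y * g⁻¹)⁻¹ := by
        calc g * t * y * (g * t)⁻¹ = g * (t * y * t⁻¹) * g⁻¹ := by group
          _ = g * y⁻¹ * g⁻¹ := by rw [ht]
          _ = _ := by group
      refine ⟨fun hh => ?_, fun hh => hy.selfcent _ (mul_inv_eq_iff_eq_mul.1 ?_).symm⟩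
      · rw [← inv_inj, inv_inv, ← e, ← (hy.commute_of_mem hh).eq, mul_inv_cancel_right]
      · rw [e, hh, inv_inv]
    rw [hgt, hg]
    rcases hcases g with e | e
    · exact Or.inr ⟨e, fun e' => hne (e'.symm.trans e)⟩
    · exact Or.inl ⟨e, fun e' => hne (e.symm.trans e')⟩
  rw [← Subgroup.card_mul_index (Subgroup.zpowers y), hidx, Nat.card_zpowers, hy.orderOf_eq]

end CycNormal

variable {G : Type u} [Group G] [Finite G]

/-- A non-trivial solvable normal subgroup of `G/O₂(G)` gives a self-centralising normal subgroup of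
order three or five. -/
theorem Ord5.exists_cycNormal (h : Ord5 G) (hO : pCore 2 G ≠ ⊥) {N : Subgroup (G ⧸ pCore 2 G)}
    [N.Normal] (hNs : Group.IsSolvable N) (hN : N ≠ ⊥) :
    ∃ m y, CycNormal (G ⧸ pCore 2 G) m y := by
  haveI : Fact (Nat.Prime 2) := ⟨Nat.prime_two⟩
  have hQ := h.quotient (pCore 2 G)
  obtain ⟨p, V, hp, hVn, -, hV1, hVp⟩ := CfsgLib.CN.exists_normal_pGroup_le N hNs hN
  haveI := Fact.mk hp
  have hp2 : p ≠ 2 := by
    rintro rfl
    refine hV1 (le_bot_iff.1 ?_)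
    rw [← CfsgLib.Constrained.pCore_quotient_pCore (p := 2) (G := G)]
    exact CfsgLib.Constrained.le_pCore hVn hVp
  obtain ⟨v, hv, hv1⟩ := V.bot_or_exists_ne_one.resolve_left hV1
  obtain ⟨m, hm, hvm⟩ := hQ.exists_exp v
  have hkind : Kind p m ∧ (m = 3 ∨ m = 5) := by
    obtain ⟨k, hk⟩ := hVp ⟨v, hv⟩
    have hk' : v ^ p ^ k = 1 := congrArg Subtype.val hk
    have hnc : ¬ m.Coprime p := fun hc => hv1 (eq_one_of_pow_coprime (hc.pow_right k) hvm hk')
    rcases hm with rfl | rfl | rfl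
    · rcases eq_or_ne p 3 with rfl | hne
      · exact ⟨Or.inr (Or.inl ⟨rfl, rfl⟩), Or.inl rfl⟩
      · exact absurd ((Nat.coprime_primes Nat.prime_three hp).2 hne.symm) hnc
    · exact absurd (show Nat.Coprime (2 ^ 2) p from
        ((Nat.coprime_primes Nat.prime_two hp).2 hp2.symm).pow_left 2) hnc
    · rcases eq_or_ne p 5 with rfl | hne
      · exact ⟨Or.inr (Or.inr ⟨rfl, rfl⟩), Or.inr rfl⟩
      · exact absurd ((Nat.coprime_primes (by norm_num) hp).2 hne.symm) hnc
  obtain ⟨hk, hm'⟩ := hkind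
  set T := Subgroup.centralizer (V : Set (G ⧸ pCore 2 G)) with hTdef
  have hTp : IsPGroup p T := hQ.isPGroup_centralizer_subgroup hk hVp hV1
  haveI := hVn
  haveI : T.Normal := inferInstance
  have hT1 : T ≠ ⊥ := by
    intro e
    haveI : Nontrivial V := V.nontrivial_iff_ne_bot.2 hV1
    haveI := hVp.center_nontrivial
    obtain ⟨z, hz⟩ := exists_ne (1 : Subgroup.center V)
    have hmem : ((z : V) : G ⧸ pCore 2 G) ∈ T := Subgroup.mem_centralizer_iff.2 fun w hw =>
      congrArg Subtype.val (Subgroup.mem_center_iff.1 z.2 ⟨w, hw⟩)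
    rw [e, Subgroup.mem_bot] at hmem
    exact hz (Subtype.ext (Subtype.ext hmem))
  haveI : Nontrivial T := T.nontrivial_iff_ne_bot.2 hT1
  haveI := hTp.center_nontrivial
  obtain ⟨a, ha⟩ := exists_ne (1 : Subgroup.center T)
  set y : G ⧸ pCore 2 G := ((a : T) : G ⧸ pCore 2 G) with hy
  have hy1 : y ≠ 1 := fun e => ha (Subtype.ext (Subtype.ext e))
  have hyT : y ∈ T := (a : T).2
  have hym : y ^ m = 1 := hQ.pow_of_isPGroup hk hTp hyT
  have hTy : T = Subgroup.zpowers y := by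
    refine le_antisymm (fun b hb => ?_) (Subgroup.zpowers_le.2 hyT)
    by_contra hby
    exact h.no_noncyclic (O := pCore 2 G) CfsgLib.Constrained.isPGroup_pCore hO hm'
      (congrArg Subtype.val (Subgroup.mem_center_iff.1 a.2 ⟨b, hb⟩))
      (hQ.pow_of_isPGroup hk hTp hb) hym hy1 hby
  refine ⟨m, y, hm', hym, hy1, fun g => hTy ▸ (inferInstance : T.Normal).conj_mem y hyT g,
    fun g hg => ?_⟩
  by_contra hgy
  have hgm := hQ.pow_eq_one_of_commute (by omega) hym hy1 hg
  exact h.no_noncyclic (O := pCore 2 G) CfsgLib.Constrained.isPGroup_pCore hO hm' hg.symm hgm hym hy1 hgy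

/-- The structure of the quotient by a non-trivial `O₂`. -/
theorem Ord5.local_cases {n : ℕ} (hrec : Rec.{u} n) (hn : Nat.card G ≤ n) (h : Ord5 G)
    (hO : pCore 2 G ≠ ⊥) :
    (pCore 2 G = ⊤) ∨ (∃ m y, CycNormal (G ⧸ pCore 2 G) m y) ∨
      Nonempty (G ⧸ pCore 2 G ≃* A5) := by
  haveI : Fact (Nat.Prime 2) := ⟨Nat.prime_two⟩
  set O := pCore 2 G with hOdef
  by_cases hsol : ∃ N : Subgroup (G ⧸ O), N.Normal ∧ Group.IsSolvable N ∧ N ≠ ⊥
  · obtain ⟨N, hNn, hNs, hN1⟩ := hsol
    haveI := hNn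
    exact Or.inr (Or.inl (h.exists_cycNormal hO hNs hN1))
  push Not at hsol
  by_cases hs : Group.IsSolvable (G ⧸ O)
  · left
    have := hsol ⊤ inferInstance inferInstance
    haveI : Subsingleton (G ⧸ O) := Subgroup.subsingleton_iff.1 (subsingleton_of_bot_eq_top this.symm)
    exact eq_top_iff.2 fun g _ => (QuotientGroup.eq_one_iff g).1 (Subsingleton.elim _ _)
  right; right
  have hlt : Nat.card (G ⧸ O) < n := by
    refine lt_of_lt_of_le ?_ hn
    rw [Subgroup.card_eq_card_quotient_mul_card_subgroup O]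
    exact lt_mul_of_one_lt_right Nat.card_pos (O.one_lt_card_iff_ne_bot.2 hO)
  rcases hrec (G ⧸ O) hlt ⟨h.quotient O, hs, hsol⟩ with e | ⟨⟨e⟩⟩
  · exact e
  · exfalso
    obtain ⟨a, b, ha, hb, hb1, hab, ha1, hne, hne'⟩ := a6_three
    refine h.no_noncyclic (O := O) CfsgLib.Constrained.isPGroup_pCore hO (Or.inl rfl)
      (a := e.symm a) (b := e.symm b) ((show Commute a b from hab).map e.symm)
      (by rw [← map_pow, ha, map_one]) (by rw [← map_pow, hb, map_one]) (by simpa using hb1) ?_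
    intro hm
    rw [← MulEquiv.coe_toMonoidHom, ← MonoidHom.map_zpowers] at hm
    obtain ⟨c, hc, hce⟩ := hm
    have : c = a := e.symm.injective hce
    subst this
    obtain ⟨k, hk, rfl⟩ := (mem_powers_iff_mem_zpowers.2 hc)
    obtain hk0 | hk1 | hk2 : k % 3 = 0 ∨ k % 3 = 1 ∨ k % 3 = 2 := by omega
    all_goals
      have hbk : b ^ k = b ^ (k % 3) := by
        conv_lhs => rw [← Nat.mod_add_div k 3, pow_add, pow_mul, hb, one_pow, mul_one]
      simp only [hbk] at ha1 hne hne'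
    · exact ha1 (by rw [hk0, pow_zero])
    · exact hne (by rw [hk1, pow_one])
    · exact hne' (by rw [hk2]; exact eq_inv_of_mul_eq_one_left (by rw [← pow_succ]; exact hb))

/-- No non-trivial normal subgroup of odd prime-power order under two commuting involutions. -/
theorem Ord5.not_odd_radical (h : Ord5 G) {R : Subgroup G} [R.Normal] {p : ℕ} (hp : p.Prime)
    (hp2 : p ≠ 2) (hR : IsPGroup p R) (hR1 : R ≠ ⊥) {a b : G ⧸ R} (ha : a * a = 1) (hb : b * b = 1)
    (ha1 : a ≠ 1) (hb1 : b ≠ 1) (hne : a ≠ b) (hab : Commute a b) : False := by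
  haveI := Fact.mk hp
  set V : Subgroup G := (Subgroup.center R).map R.subtype with hVdef
  haveI : V.Normal := by rw [hVdef]; exact ConjAct.normal_of_characteristic_of_normal
  have hVR : V ≤ R := Subgroup.map_subtype_le _
  have hcomm : ∀ g ∈ R, ∀ v ∈ V, Commute g v := by
    rintro g hg _ ⟨z, hz, rfl⟩
    exact congrArg Subtype.val (Subgroup.mem_center_iff.1 hz ⟨g, hg⟩)
  obtain ⟨z, hzV, hz1⟩ : ∃ z ∈ V, z ≠ 1 := by
    haveI : Nontrivial R := R.nontrivial_iff_ne_bot.2 hR1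
    haveI := hR.center_nontrivial
    obtain ⟨z, hz⟩ := exists_ne (1 : Subgroup.center R)
    exact ⟨((z : R) : G), ⟨z, z.2, rfl⟩, fun e => hz (Subtype.ext (Subtype.ext e))⟩
  have p2 : ∀ r ∈ R, r ^ 2 = 1 → r = 1 := fun r hr h2 => by
    obtain ⟨k, hk⟩ := hR ⟨r, hr⟩
    have hk' : r ^ p ^ k = 1 := congrArg Subtype.val hk
    exact eq_one_of_pow_coprime (((Nat.coprime_primes Nat.prime_two hp).2 hp2.symm).pow_right k) h2 hk'
  -- every lift of an involution is an involution without fixed points on `R`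
  have lift : ∀ g : G, (g : G ⧸ R) * g = 1 → (g : G ⧸ R) ≠ 1 →
      g * g = 1 ∧ ∀ v ∈ V, Commute g v → v = 1 := by
    intro g hg hg1
    have h4 : g ^ 4 = 1 := h.pow_of_image (QuotientGroup.mk' R) (m := 4) (by omega)
      (by rw [show (4 : ℕ) = 2 * 2 from rfl, pow_mul, pow_two (QuotientGroup.mk' R g)]
          exact (congrArg (· ^ 2) hg).trans (one_pow 2)) hg1
    have h2 : g * g = 1 := p2 _ ((QuotientGroup.eq_one_iff _).1 hg) (by
      rw [← h4]; simp only [pow_succ, pow_zero, one_mul, mul_assoc])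
    refine ⟨h2, fun v hv hc => p2 v (hVR hv) ?_⟩
    have hg1' : g ≠ 1 := fun e => hg1 (by rw [e]; rfl)
    have h4' := h.pow_eq_one_of_commute (m := 4) (by omega) h4 hg1' hc
    obtain ⟨k, hk⟩ := hR ⟨v, hVR hv⟩
    have hk' : v ^ p ^ k = 1 := congrArg Subtype.val hk
    rw [eq_one_of_pow_coprime (m := 4) (n := p ^ k)
      (show Nat.Coprime (2 ^ 2) (p ^ k) from (((Nat.coprime_primes Nat.prime_two hp).2 hp2.symm).pow_left 2).pow_right k)
      h4' hk', one_pow]
  have inv : ∀ g : G, (g : G ⧸ R) * g = 1 → (g : G ⧸ R) ≠ 1 → g * z * g⁻¹ = z⁻¹ := by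
    intro g hg hg1
    obtain ⟨h2, hfix⟩ := lift g hg hg1
    have hgz : g * z * g⁻¹ ∈ V := (inferInstance : V.Normal).conj_mem z hzV g
    refine eq_inv_of_mul_eq_one_right (hfix _ (V.mul_mem hzV hgz) (mul_inv_eq_iff_eq_mul.1 ?_))
    calc g * (z * (g * z * g⁻¹)) * g⁻¹ = g * z * g⁻¹ * ((g * g) * z * (g * g)⁻¹) := by group
      _ = g * z * g⁻¹ * z := by rw [h2]; group
      _ = z * (g * z * g⁻¹) := ((hcomm z (hVR hzV) _ hgz).eq).symm
  obtain ⟨g, rfl⟩ := QuotientGroup.mk_surjective a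
  obtain ⟨k, rfl⟩ := QuotientGroup.mk_surjective b
  have hgk1 : ((g * k : G) : G ⧸ R) ≠ 1 := fun e => hne (by
    rw [QuotientGroup.mk_mul] at e
    rw [eq_inv_of_mul_eq_one_left e]; exact inv_eq_of_mul_eq_one_right hb)
  have hgk2 : ((g * k : G) : G ⧸ R) * ((g * k : G) : G ⧸ R) = 1 := by
    rw [QuotientGroup.mk_mul]
    calc (g : G ⧸ R) * k * (g * k) = g * (k * g) * k := by group
      _ = (g : G ⧸ R) * g * (k * k) := by rw [← hab.eq]; group
      _ = 1 := by rw [ha, hb, one_mul]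
  refine hz1 ((lift _ hgk2 hgk1).2 z hzV (mul_inv_eq_iff_eq_mul.1 ?_))
  calc g * k * z * (g * k)⁻¹ = g * (k * z * k⁻¹) * g⁻¹ := by group
    _ = z := by rw [inv k hb hb1, ← conj_inv, inv g ha ha1, inv_inv]

end CfsgLib.SpecFive
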