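import Cfsg.Agent.SpecFive.CaseOne
import Cfsg.Agent.S3992
import Cfsg.Agent.PrimeGraph.ThreePrimes

/-!
# Finite non-solvable groups with element orders at most five
-/

set_option autoImplicit false
set_option linter.unusedSectionVars false
set_option linter.style.haveILetI false

namespace CfsgLib.SpecFive

open Cfsg

universe u

variable {G : Type u} [Group G] [Finite G]

theorem Ord5.isPrimePow (h : Ord5 G) {g : G} (hg : g ≠ 1) : IsPrimePow (orderOf g) := by
  obtain ⟨l, hl, hl'⟩ := h.exists_exp g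
  have hd := orderOf_dvd_of_pow_eq_one hl'
  have h1 : orderOf g ≠ 1 := fun e => hg (orderOf_eq_one_iff.1 e)
  have h0 := orderOf_pos g
  have hle := Nat.le_of_dvd (by omega) hd
  generalize orderOf g = o at hd h1 h0 hle
  have : o = 2 ∨ o = 3 ∨ o = 4 ∨ o = 5 := by omega
  rcases this with rfl | rfl | rfl | rfl
  · exact Nat.prime_two.isPrimePow
  · exact Nat.prime_three.isPrimePow
  · exact (isPrimePow_nat_iff 4).2 ⟨2, 2, Nat.prime_two, by norm_num, by norm_num⟩
  · exact Nat.prime_five.isPrimePow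

/-- Below every order. -/
theorem rec_all : ∀ n : ℕ, Rec.{u} n := by
  intro n
  induction n with
  | zero => exact fun H _ _ hlt => absurd hlt (Nat.not_lt_zero _)
  | succ n ih =>
    intro H _ _ hlt hRF
    rcases Nat.lt_succ_iff_lt_or_eq.1 hlt with hlt' | rfl
    · exact ih H hlt' hRF
    obtain ⟨-, ⟨M, hMn, hMs, hMna, -⟩, -⟩ := Cfsg.Agent.S3992.result hRF.nonsolvable
      (fun g hg => hRF.ord.isPrimePow hg) (⊥ : Subgroup H) inferInstance
      (fun N hN hNs => (hRF.radical N hN hNs).le)
    set e := QuotientGroup.quotientBot (G := H)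
    set K := M.map e.toMonoidHom with hK
    haveI : K.Normal := hMn.map _ e.surjective
    let eK : M ≃* K := e.subgroupMap M
    haveI := hMs
    haveI : IsSimpleGroup K := (eK.isSimpleGroup_congr).1 hMs
    have hKns : ¬ Group.IsSolvable K := fun hs => hMna (by
      haveI := hs
      have : Group.IsSolvable M :=
        Group.isSolvable_of_surjective (f := eK.symm.toMonoidHom) eK.symm.surjective
      exact ⟨⟨IsSimpleGroup.comm_iff_isSolvable.2 this⟩⟩)
    have hKRF : RF K := ⟨hRF.ord.subgroup K, hKns, fun N hN hNs => by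
      rcases IsSimpleGroup.eq_bot_or_eq_top_of_normal N hN with h | h
      · exact h
      · exfalso
        apply hKns
        subst h
        haveI := hNs
        exact Group.isSolvable_of_surjective (f := (Subgroup.topEquiv (G := K)).toMonoidHom)
          (Subgroup.topEquiv (G := K)).surjective⟩
    by_cases htop : K = ⊤
    · have eT : K ≃* H := (MulEquiv.subgroupCongr htop).trans Subgroup.topEquiv
      haveI : IsSimpleGroup H := eT.isSimpleGroup_congr.1 inferInstance
      exact concl_simple ih hRF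
    · exfalso
      have hlt2 : Nat.card K < Nat.card H := (Subgroup.card_le_card_group K).lt_of_ne
        fun he => htop (Subgroup.eq_top_of_card_eq _ he)
      rcases ih K hlt2 hKRF with ⟨⟨e5⟩⟩ | ⟨⟨e6⟩⟩
      · exact htop (hRF.ord.eq_top_of_A5 e5)
      · exact htop (hRF.ord.eq_top_of_A6 e6)

theorem concl_of_RF (hG : RF G) : Concl G := rec_all (Nat.card G + 1) G (Nat.lt_succ_self _) hG

/-- Non-solvable groups with element orders at most five: `A₆`, or elementary abelian by `A₅`. -/
theorem structure_of_nonsolvable (h : Ord5 G) (hns : ¬ Group.IsSolvable G) :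
    Nonempty (G ≃* A6) ∨
      ∃ (N : Subgroup G) (_ : N.Normal), Elem N ∧ Nonempty (G ⧸ N ≃* A5) := by
  haveI : Fact (Nat.Prime 2) := ⟨Nat.prime_two⟩
  obtain ⟨R, ⟨hRn, hRs⟩, hRmax⟩ := Set.exists_max_image {N : Subgroup G | N.Normal ∧ Group.IsSolvable N}
    (fun N => Nat.card N) (Set.toFinite _) ⟨⊥, inferInstance, inferInstance⟩
  haveI := hRn
  have hmax : ∀ N : Subgroup G, N.Normal → Group.IsSolvable N → N ≤ R := fun N hN hNs => by
    haveI := hN
    have h1 := hRmax (N ⊔ R) ⟨inferInstance, CfsgLib.FrobSystem.solvable_sup hNs hRs⟩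
    rw [Subgroup.eq_of_le_of_card_ge (le_sup_right : R ≤ N ⊔ R) h1]
    exact le_sup_left
  obtain ⟨⟨p, hp, hpR⟩, -, -⟩ := Cfsg.Agent.S3992.result hns (fun g hg => h.isPrimePow hg) R hRs hmax
  have hRF : RF (G ⧸ R) := by
    refine ⟨h.quotient R, fun hs => hns ?_, fun N hN hNs => ?_⟩
    · haveI := hs; haveI := hRs
      exact Group.isSolvable_of_ker_le_range R.subtype (QuotientGroup.mk' R) (by simp)
    · haveI := hN
      have hsol : Group.IsSolvable (N.comap (QuotientGroup.mk' R)) := by
        haveI := hNs; haveI := hRs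
        have hle : R ≤ N.comap (QuotientGroup.mk' R) := fun w hw => by
          show QuotientGroup.mk' R w ∈ N
          rw [show QuotientGroup.mk' R w = 1 from (QuotientGroup.eq_one_iff w).2 hw]
          exact N.one_mem
        exact Group.isSolvable_of_ker_le_range (Subgroup.inclusion hle) ((QuotientGroup.mk' R).subgroupComap N)
          fun w hw => ⟨⟨w, (QuotientGroup.eq_one_iff _).1 (congrArg Subtype.val hw)⟩, rfl⟩
      rw [eq_bot_iff]
      intro w hw
      obtain ⟨a, rfl⟩ := QuotientGroup.mk_surjective w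
      exact Subgroup.mem_bot.2 ((QuotientGroup.eq_one_iff a).2 (hmax _ (hN.comap _) hsol hw))
  have hQ := concl_of_RF hRF
  have hR2 : IsPGroup 2 R := by
    by_cases hR1 : R = ⊥
    · rw [hR1]; exact IsPGroup.of_bot
    by_cases hp2 : p = 2
    · exact hp2 ▸ hpR
    exfalso
    obtain ⟨a, b, ha, hb, ha1, hb1, hne, hab⟩ := four_of_alt hQ
    exact h.not_odd_radical hp hp2 hpR hR1 ha hb ha1 hb1 hne hab
  rcases hQ with ⟨⟨e⟩⟩ | ⟨⟨e⟩⟩
  · refine Or.inr ⟨R, inferInstance, ?_, ⟨e⟩⟩
    obtain ⟨a, ha2, ha1⟩ : ∃ a : A5, a * a = 1 ∧ a ≠ 1 := ⟨a5a, a5_four.1, a5_four.2.2.1⟩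
    obtain ⟨k, hk, hk1, hks⟩ := a5_involution_inverts a ha2 ha1
    obtain ⟨y, t, hy, hy1, -, -, ht⟩ := h.exists_inverted_lift hR2 (Or.inl rfl) (k := e.symm k) (s := e.symm a)
      (by rw [← map_pow, hk, map_one]) (by simpa using hk1) (by rw [← map_inv, ← map_mul, ← map_mul, hks, map_inv])
    exact h.elementary_of_inverted hR2 hy hy1 ht (fun d hd => hRn.conj_mem d hd y) (fun d hd => hRn.conj_mem d hd t)
  · left
    by_cases hR1 : R = ⊥
    · subst hR1
      exact ⟨(QuotientGroup.quotientBot (G := G)).symm.trans e⟩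
    exfalso
    obtain ⟨a, b, ha, hb, hb1, hab, ha1, hne, hne'⟩ := a6_three
    refine h.no_noncyclic hR2 hR1 (Or.inl rfl) (a := e.symm a) (b := e.symm b)
      ((show Commute a b from hab).map e.symm) (by rw [← map_pow, ha, map_one]) (by rw [← map_pow, hb, map_one])
      (by simpa using hb1) ?_
    intro hm
    rw [← MulEquiv.coe_toMonoidHom, ← MonoidHom.map_zpowers] at hm
    obtain ⟨c, hc, hce⟩ := hm
    obtain rfl : c = a := e.symm.injective hce
    obtain ⟨k, -, rfl⟩ := (mem_powers_iff_mem_zpowers.2 hc)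
    have hbk : b ^ k = b ^ (k % 3) := by
      conv_lhs => rw [← Nat.mod_add_div k 3, pow_add, pow_mul, hb, one_pow, mul_one]
    simp only [hbk] at ha1 hne hne'
    obtain hk | hk | hk : k % 3 = 0 ∨ k % 3 = 1 ∨ k % 3 = 2 := by omega
    · exact ha1 (by rw [hk, pow_zero])
    · exact hne (by rw [hk, pow_one])
    · exact hne' (by rw [hk]; exact eq_inv_of_mul_eq_one_left (by rw [← pow_succ]; exact hb))

/-- With elements of orders three and five and no other order above four the group is not solvable. -/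
theorem not_solvable_of_orders (h : Ord5 G) (h2 : 2 ∣ Nat.card G) (h3 : 3 ∣ Nat.card G) (h5 : 5 ∣ Nat.card G) :
    ¬ Group.IsSolvable G := by
  intro hs
  obtain ⟨w, hw⟩ := CfsgLib.PrimeGraph.exists_adjacent_of_isSolvable (G := G) Nat.prime_two Nat.prime_three
    Nat.prime_five (by norm_num) (by norm_num) (by norm_num) h2 h3 h5
  obtain ⟨l, hl, hl'⟩ := h.exists_exp w
  have := Nat.le_of_dvd (by omega) (orderOf_dvd_of_pow_eq_one hl')
  omega

end CfsgLib.SpecFive
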