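import Cfsg.Agent.SpecFive.Local
import Cfsg.Agent.LocalP.ThompsonJ

/-!
# Elementary abelian subgroups of largest order in a 2-local without inverted elements of order three
-/

set_option autoImplicit false
set_option linter.unusedSectionVars false
set_option linter.style.haveILetI false

namespace CfsgLib.SpecFive

open Cfsg

universe u

variable {X : Type u} [Group X] [Finite X]

/-- The involutions of the centre of a subgroup, with the identity. -/
def invCentre (O : Subgroup X) : Subgroup X where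
  carrier := {v | v ∈ O ∧ (∀ a ∈ O, Commute a v) ∧ v * v = 1}
  one_mem' := ⟨O.one_mem, fun a _ => Commute.one_right a, one_mul 1⟩
  mul_mem' := fun {u v} hu hv => ⟨O.mul_mem hu.1 hv.1, fun a ha => (hu.2.1 a ha).mul_right (hv.2.1 a ha), by
    calc u * v * (u * v) = u * (v * u) * v := by group
      _ = u * u * (v * v) := by rw [(hu.2.1 v hv.1).eq]; group
      _ = 1 := by rw [hu.2.2, hv.2.2, one_mul]⟩
  inv_mem' := fun {u} hu => ⟨O.inv_mem hu.1, fun a ha => (hu.2.1 a ha).inv_right, by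
    rw [← mul_inv_rev, hu.2.2, inv_one]⟩

theorem invCentre_le (O : Subgroup X) : invCentre O ≤ O := fun _ h => h.1

theorem invCentre_elem (O : Subgroup X) : Elem (invCentre O) :=
  ⟨fun _ ha _ hb => hb.2.1 _ ha.1, fun _ ha => ha.2.2⟩

theorem invCentre_normal (O : Subgroup X) [O.Normal] : (invCentre O).Normal := ⟨fun v hv g => by
  refine ⟨(inferInstance : O.Normal).conj_mem v hv.1 g, fun a ha => ?_, ?_⟩
  · have := hv.2.1 (g⁻¹ * a * g) (by simpa using (inferInstance : O.Normal).conj_mem a ha g⁻¹)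
    show a * (g * v * g⁻¹) = g * v * g⁻¹ * a
    calc a * (g * v * g⁻¹) = g * (g⁻¹ * a * g * v) * g⁻¹ := by group
      _ = g * (v * (g⁻¹ * a * g)) * g⁻¹ := by rw [this.eq]
      _ = _ := by group
  · calc g * v * g⁻¹ * (g * v * g⁻¹) = g * (v * v) * g⁻¹ := by group
      _ = 1 := by rw [hv.2.2, mul_one, mul_inv_cancel]⟩

theorem invCentre_ne_bot {O : Subgroup X} (hO : IsPGroup 2 O) (hO1 : O ≠ ⊥) : invCentre O ≠ ⊥ := by
  haveI : Fact (Nat.Prime 2) := ⟨Nat.prime_two⟩
  haveI : Nontrivial O := O.nontrivial_iff_ne_bot.2 hO1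
  haveI := hO.center_nontrivial
  obtain ⟨n, hn⟩ := IsPGroup.iff_card.1 (hO.to_subgroup (Subgroup.center O))
  have h2 : 2 ∣ Nat.card (Subgroup.center O) := by
    rw [hn]
    refine dvd_pow_self 2 fun e => ?_
    rw [e, pow_zero] at hn
    exact (Finite.one_lt_card (α := Subgroup.center O)).ne' hn
  obtain ⟨z, hz⟩ := exists_prime_orderOf_dvd_card' 2 h2
  intro e
  have hz2 : z * z = 1 := by rw [← pow_two, ← hz, pow_orderOf_eq_one]
  have : ((z : O) : X) ∈ invCentre O := ⟨(z : O).2,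
    fun a ha => congrArg Subtype.val (Subgroup.mem_center_iff.1 z.2 ⟨a, ha⟩),
    congrArg (fun w : Subgroup.center O => ((w : O) : X)) hz2⟩
  rw [e, Subgroup.mem_bot] at this
  rw [Subtype.ext (Subtype.ext this) (a1 := z) (a2 := 1), orderOf_one] at hz
  omega

/-- No inverted element of order three. -/
def NoS3 (X : Type u) [Group X] : Prop :=
  ∀ x t : X, x ^ 3 = 1 → x ≠ 1 → t * x * t⁻¹ ≠ x⁻¹

/-- An elementary abelian subgroup of largest order lies in `O₂`. -/
theorem Ord5.elem_le_pCore {n : ℕ} (hrec : Rec.{u} n) (hn : Nat.card X ≤ n) (h : Ord5 X)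
    (hS3 : NoS3 X) (hO : pCore 2 X ≠ ⊥) {A P : Subgroup X} (hA : Elem A) (hAP : A ≤ P)
    (hOP : pCore 2 X ≤ P) (hmax : ∀ B ≤ P, Elem B → Nat.card B ≤ Nat.card A) : A ≤ pCore 2 X := by
  haveI : Fact (Nat.Prime 2) := ⟨Nat.prime_two⟩
  set O := pCore 2 X with hOdef
  intro a ha
  by_contra haO
  have hOp : IsPGroup 2 O := CfsgLib.Constrained.isPGroup_pCore
  obtain ⟨m, y, t, hm, hy, hy1, hyO, ht, htb⟩ := h.exists_inverted haO (by rw [hA.2 a ha]; exact O.one_mem)
  have hm5 : m = 5 := by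
    rcases hm with rfl | rfl
    · exact absurd ht (hS3 y t hy hy1)
    · rfl
  subst hm5
  -- the quotient
  have hae : ∀ b ∈ A, b ∉ O → b * a⁻¹ ∈ O := by
    rcases h.local_cases hrec hn hO with htop | ⟨m, k, hk⟩ | ⟨⟨e⟩⟩
    · exact absurd (htop.ge (Subgroup.mem_top a)) haO
    · intro b hb hbO
      have hq : ∀ c ∈ A, c ∉ O → (c : X ⧸ O) * c = 1 ∧ (c : X ⧸ O) ≠ 1 := fun c hc hcO =>
        ⟨by rw [← QuotientGroup.mk_mul, hA.2 c hc]; rfl, fun e => hcO ((QuotientGroup.eq_one_iff c).1 e)⟩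
      have heq := hk.involutions_eq (h.quotient O) (hq b hb hbO).1 (hq b hb hbO).2 (hq a ha haO).1
        (hq a ha haO).2 ((hA.1 b hb a ha).map (QuotientGroup.mk' O))
      refine (QuotientGroup.eq_one_iff _).1 ?_
      rw [QuotientGroup.mk_mul, QuotientGroup.mk_inv, heq, mul_inv_cancel]
    · exfalso
      obtain ⟨x, hx, hx1, hax⟩ := a5_involution_inverts a5a a5_four.1 a5_four.2.2.1
      obtain ⟨y', t', hy', hy1', -, -, ht'⟩ := h.exists_inverted_lift hOp (Or.inl rfl)
        (k := e.symm x) (s := e.symm a5a) (by rw [← map_pow, hx, map_one]) (by simpa using hx1)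
        (by rw [← map_inv, ← map_mul, ← map_mul, hax, map_inv])
      exact hS3 y' t' hy' hy1' ht'
  -- the module
  set V := invCentre O with hVdef
  haveI := invCentre_normal O
  have hV1 : V ≠ ⊥ := invCentre_ne_bot hOp hO
  have hVO : V ≤ O := invCentre_le O
  set C := V ⊓ Subgroup.centralizer ({t} : Set X) with hCdef
  have hnV : ∀ d ∈ V, y * d * y⁻¹ ∈ V := fun d hd => (inferInstance : V.Normal).conj_mem d hd y
  have hfix : ∀ d ∈ V, Commute y d → d = 1 := fun d hd => h.fpf hOp (Or.inr rfl) hy hy1 d (hVO hd)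
  have hC : Nat.card C * Nat.card C ≤ Nat.card V := card_fixed_le (Or.inr rfl) hy ht hnV hfix
  have hV16 : 16 ≤ Nat.card V := by
    obtain ⟨k, hk⟩ := IsPGroup.iff_card.1 (hOp.to_le hVO)
    have hmod : Nat.card V % 5 = 1 % 5 := card_modEq_one (by norm_num) hy V hnV hfix
    have hk0 : k ≠ 0 := fun e => hV1 (Subgroup.eq_bot_of_card_eq _ (by rw [hk, e, pow_zero]))
    rw [hk] at hmod ⊢
    by_contra hlt
    have hk4 : k < 4 := by
      by_contra hc
      exact hlt (le_trans (by norm_num) (Nat.pow_le_pow_right (show 0 < 2 by norm_num) (not_lt.1 hc)))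
    interval_cases k <;> simp_all
  have hAV : A ⊓ V ≤ C := by
    rintro v ⟨hvA, hvV⟩
    refine ⟨hvV, Subgroup.mem_centralizer_singleton_iff.2 ?_⟩
    have hr : t * a⁻¹ ∈ O := htb
    have h1 : Commute (t * a⁻¹) v := hvV.2.1 _ hr
    have h2 : Commute a v := hA.1 a ha v hvA
    have := h1.mul_left h2
    rw [inv_mul_cancel_right] at this
    exact this.symm.eq
  -- a larger elementary subgroup
  set B := (A ⊓ O) ⊔ V with hBdef
  have hcomm : ∀ u ∈ A ⊓ O, ∀ v ∈ V, Commute u v := fun u hu v hv => hv.2.1 u hu.2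
  have hBE : Elem B := by
    have hmem : ∀ w ∈ B, ∃ u ∈ A ⊓ O, ∃ v ∈ V, u * v = w := fun w hw =>
      (Subgroup.mem_sup_of_normal_right).1 hw
    constructor
    · intro b hb c hc
      obtain ⟨u, hu, v, hv, rfl⟩ := hmem b hb
      obtain ⟨u', hu', v', hv', rfl⟩ := hmem c hc
      exact ((hA.1 u hu.1 u' hu'.1).mul_right (hcomm u hu v' hv')).mul_left
        ((hcomm u' hu' v hv).symm.mul_right ((invCentre_elem O).1 v hv v' hv'))
    · intro b hb
      obtain ⟨u, hu, v, hv, rfl⟩ := hmem b hb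
      calc u * v * (u * v) = u * (v * u) * v := by group
        _ = u * u * (v * v) := by rw [← (hcomm u hu v hv).eq]; group
        _ = 1 := by rw [hA.2 u hu.1, hv.2.2, one_mul]
  have h1 : Nat.card B ≤ Nat.card A :=
    hmax B (sup_le (inf_le_left.trans hAP) (hVO.trans hOP)) hBE
  have h2 : Nat.card A ≤ 2 * Nat.card (A ⊓ O : Subgroup X) := by
    rw [show 2 * Nat.card (A ⊓ O : Subgroup X) = Nat.card (Bool × (A ⊓ O : Subgroup X)) by
      rw [Nat.card_prod, Nat.card_eq_fintype_card (α := Bool), Fintype.card_bool]]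
    refine Nat.card_le_card_of_surjective (fun p : Bool × (A ⊓ O : Subgroup X) =>
      (⟨(p.2 : X) * (if p.1 then a else 1), by
        rcases p with ⟨_ | _, w⟩
        · simpa using w.2.1
        · exact A.mul_mem w.2.1 ha⟩ : A)) ?_
    intro b
    by_cases hbO : (b : X) ∈ O
    · exact ⟨(false, ⟨b, b.2, hbO⟩), Subtype.ext (by simp)⟩
    · refine ⟨(true, ⟨b * a⁻¹, A.mul_mem b.2 (A.inv_mem ha), hae b b.2 hbO⟩), Subtype.ext ?_⟩
      simp
  have h3 : Nat.card (A ⊓ O : Subgroup X) * Nat.card V ≤ Nat.card B * Nat.card C :=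
    (CfsgLib.LocalP.card_mul_le_card_sup_mul_card_inf _ _).trans
      (Nat.mul_le_mul_left _ (Subgroup.card_le_of_le ((inf_le_inf_right V inf_le_left).trans hAV)))
  have hCpos : 0 < Nat.card C := Nat.card_pos
  have hApos : 0 < Nat.card (A ⊓ O : Subgroup X) := Nat.card_pos
  have h4 : 4 * Nat.card C ≤ Nat.card V := by
    rcases Nat.lt_or_ge (Nat.card C) 4 with hc | hc
    · omega
    · exact le_trans (Nat.mul_le_mul_right _ hc) hC
  nlinarith [Nat.mul_le_mul_left (Nat.card (A ⊓ O : Subgroup X)) h4,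
    Nat.mul_le_mul_right (Nat.card C) (h1.trans h2)]

end CfsgLib.SpecFive
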